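import Cfsg.Agent.Lib.Sporadic.LargeFischer.SixTwo.Facts

/-!
# Linear involutions and linear elements of order four of a model in standard position
-/

set_option autoImplicit false
set_option linter.unusedSectionVars false
set_option maxRecDepth 100000

namespace CfsgLib.Sporadic.LargeFischer.SixTwo

open Explicit

theorem syl_four {g : V6 ≃ₗ[ZMod 2] V6} (hg : g ∈ sylGroup) (h2 : g * g ≠ 1) (h4 : g * g * (g * g) = 1) :
    ∃ v, g (g v) = v ∧ inOb (g v + v) = true := by
  have hb := List.all_eq_true.1 four_moves _ (syl_cols hg)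
  simp only [Bool.or_eq_true, Bool.not_eq_true', ← cols_mul, h4, cols_one, beq_self_eq_true, List.any_eq_true,
    List.mem_range, Bool.and_eq_true, beq_iff_eq] at hb
  rcases hb with (e | e) | ⟨n, hn, e1, e2⟩
  · exact absurd (cols_injective (e.trans cols_one.symm)) h2
  · exact absurd e (by decide)
  · have hn' : n < 4096 := by omega
    refine ⟨dec n, ?_, ?_⟩
    · rw [← LinearEquiv.mul_apply, apply_eq _ hn', e1]
    · rw [apply_eq _ hn', ← dec_xor]; exact e2

variable {K : Subgroup (V6 ≃ₗ[ZMod 2] V6)}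

/-- A linear element of two-power order is conjugate into the table. -/
theorem exists_conj_syl (h : Std K) (hs : ¬ ∀ g ∈ K, Lin g) {g : V6 ≃ₗ[ZMod 2] V6} (hg : g ∈ K) (hl : Lin g)
    {n : ℕ} (hn : g ^ 2 ^ n = 1) : ∃ k ∈ K, Lin k ∧ k⁻¹ * g * k ∈ sylGroup := by
  have hp : IsPGroup 2 (Subgroup.zpowers g) := by
    rintro ⟨x, i, rfl⟩
    refine ⟨n, Subtype.ext ?_⟩
    show (g ^ i) ^ (2 ^ n) = 1
    rw [← zpow_natCast, ← zpow_mul, mul_comm, zpow_mul, zpow_natCast, hn, one_zpow]
  obtain ⟨k, hk, hk'⟩ := h.exists_conj_into hs (Subgroup.zpowers_le.2 (h.linPart.2 ⟨hg, hl⟩)) hp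
  exact ⟨k, hk.2, (h.linPart.1 hk).2, hk' g (Subgroup.mem_zpowers g)⟩

/-- The displacement of a linear involution. -/
theorem linear_disp (h : Std K) (hs : ¬ ∀ g ∈ K, Lin g) {g : V6 ≃ₗ[ZMod 2] V6} (hg : g ∈ K) (hl : Lin g)
    (h1 : g ≠ 1) (h2 : g * g = 1) :
    256 ≤ Nat.card (fixSub g) ∧ (∀ w ∈ (disp g).range, qs w = 0) ∧
    ∀ a ∈ (disp g).range, ∀ b ∈ (disp g).range, inOb a = true → inOb b = true → inOb (a + b) = true →
      b = a ∨ b = omV a ∨ b = omV (omV a) := by
  classical
  haveI : Finite (V6 ≃ₗ[ZMod 2] V6) := Finite.of_injective _ DFunLike.coe_injective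
  obtain ⟨k, hk, hkl, hk'⟩ := exists_conj_syl h hs hg hl (n := 1) (by rw [pow_one, pow_two, h2])
  set g' := k⁻¹ * g * k with hg'
  obtain ⟨hc, hq, hpt⟩ := syl_disp hk' (fun e => h1 (by
      calc g = k * g' * k⁻¹ := by rw [hg']; group
        _ = 1 := by rw [e, mul_one, mul_inv_cancel]))
    (by rw [hg', show k⁻¹ * g * k * (k⁻¹ * g * k) = k⁻¹ * (g * g) * k by group, h2, mul_one, inv_mul_cancel])
  have hm : ∀ w ∈ (disp g).range, k.symm w ∈ (disp g').range := by
    rintro _ ⟨v, rfl⟩
    refine ⟨k.symm v, ?_⟩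
    show k.symm (g (k (k.symm v))) + k.symm v = k.symm (g v + v)
    rw [k.apply_symm_apply, map_add]
  have hob : ∀ w, inOb (k.symm w) = inOb w := fun w => by
    conv_rhs => rw [← k.apply_symm_apply w, h.inOb_map hk]
  refine ⟨?_, fun w hw => ?_, fun a ha b hb oa ob oab => ?_⟩
  · have e := (disp g).ker.card_mul_index
    rw [AddSubgroup.index_ker, card_V6] at e
    have hle : Nat.card (disp g).range ≤ 16 := le_trans (Nat.card_le_card_of_injective
      (fun w : (disp g).range => (⟨k.symm w, hm w w.2⟩ : (disp g').range))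
      fun a b e' => Subtype.ext (k.symm.injective (congrArg Subtype.val e'))) hc
    have h16 := Nat.mul_le_mul_left (Nat.card (disp g).ker) hle
    show 256 ≤ Nat.card (disp g).ker
    omega
  · rw [← k.apply_symm_apply w, h.model.quad k hk]
    exact hq _ (hm w hw)
  · have := hpt _ (hm a ha) _ (hm b hb) (by rw [hob]; exact oa) (by rw [hob]; exact ob)
      (by rw [← map_add, hob]; exact oab)
    rw [← k.apply_symm_apply b, ← k.apply_symm_apply a, ← hkl, ← hkl]
    rcases this with e | e | e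
    · exact Or.inl (congrArg k e)
    · exact Or.inr (Or.inl (congrArg k e))
    · exact Or.inr (Or.inr (congrArg k e))

/-- A totally singular subgroup orthogonal to the fixed vectors of an involution lies in its displacement. -/
theorem le_disp {g : V6 ≃ₗ[ZMod 2] V6} (hg : ∀ v, qs (g v) = qs v) (h2 : g * g = 1)
    (hq : ∀ w ∈ (disp g).range, qs w = 0) (R : AddSubgroup V6) (hR : ∀ r ∈ R, qs r = 0)
    (hperp : ∀ r ∈ R, ∀ v ∈ fixSub g, bs v r = 0) : R ≤ (disp g).range := by
  classical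
  have hperp' : ∀ r ∈ R ⊔ (disp g).range, ∀ v ∈ fixSub g, bs v r = 0 := by
    intro r hr v hv
    obtain ⟨a, ha, _, ⟨u, rfl⟩, rfl⟩ := AddSubgroup.mem_sup.1 hr
    rw [bs_add, hperp a ha v hv, zero_add, disp_apply, bs_add]
    have : bs v (g u) = bs v u := by
      conv_lhs => rw [← mem_fixSub.1 hv, bs_preserved hg]
    rw [this, CharTwo.add_self_eq_zero]
  have hU : ∀ w ∈ (disp g).range, w ∈ fixSub g := by
    rintro _ ⟨u, rfl⟩
    rw [mem_fixSub, disp_apply, map_add, ← LinearEquiv.mul_apply, h2]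
    exact add_comm _ _
  have hsing : ∀ r ∈ R ⊔ (disp g).range, qs r = 0 := by
    intro r hr
    obtain ⟨a, ha, b, hb, rfl⟩ := AddSubgroup.mem_sup.1 hr
    have e : bs b a = 0 := hperp a ha b (hU b hb)
    rw [bs_comm] at e
    change qs (a + b) + qs a + qs b = 0 at e
    rwa [hR a ha, hq b hb, add_zero, add_zero] at e
  obtain ⟨hkey, -, -⟩ := perp_count (R ⊔ (disp g).range) hsing
  have hle : Nat.card (fixSub g) ≤
      (Finset.univ.filter fun u : V6 => ∀ r ∈ R ⊔ (disp g).range, bs u r = 0).card := by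
    rw [← Fintype.card_coe, ← Nat.card_eq_fintype_card]
    exact Nat.card_le_card_of_injective (fun v => ⟨v, by
      rw [Finset.mem_filter]; exact ⟨Finset.mem_univ _, fun r hr => hperp' r hr v v.2⟩⟩)
      fun a b e => Subtype.ext (congrArg Subtype.val e :)
  have e := (disp g).ker.card_mul_index
  rw [AddSubgroup.index_ker, card_V6] at e
  have hkey' : (Finset.univ.filter fun u : V6 => ∀ r ∈ R ⊔ (disp g).range, bs u r = 0).card *
      Nat.card ↥(R ⊔ (disp g).range) = 4096 := by exact_mod_cast hkey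
  have hpos : 0 < Nat.card (fixSub g) := Nat.card_pos
  have hcard : Nat.card ↥(R ⊔ (disp g).range) ≤ Nat.card (disp g).range := by
    have h1 := Nat.mul_le_mul_right (Nat.card ↥(R ⊔ (disp g).range)) hle
    rw [hkey', ← e] at h1
    exact Nat.le_of_mul_le_mul_left h1 hpos
  have := AddSubgroup.eq_of_le_of_card_ge (le_sup_right : (disp g).range ≤ R ⊔ (disp g).range) hcard
  rw [this]; exact le_sup_left

/-- A linear element of order four moves some vector fixed by its square into the set of 378 vectors. -/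
theorem linear_four (h : Std K) (hs : ¬ ∀ g ∈ K, Lin g) {g : V6 ≃ₗ[ZMod 2] V6} (hg : g ∈ K) (hl : Lin g)
    (h2 : g * g ≠ 1) (h4 : g * g * (g * g) = 1) : ∃ v, g (g v) = v ∧ inOb (g v + v) = true := by
  obtain ⟨k, hk, -, hk'⟩ := exists_conj_syl h hs hg hl (n := 2)
    (by rw [show (2 : ℕ) ^ 2 = 4 from rfl, pow_succ, pow_succ, pow_succ, pow_one, mul_assoc _ g g, h4])
  set g' := k⁻¹ * g * k with hg'
  have e2 : g' * g' = k⁻¹ * (g * g) * k := by rw [hg']; group
  obtain ⟨v, hv, ho⟩ := syl_four hk' (fun e => h2 (by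
      calc g * g = k * (g' * g') * k⁻¹ := by rw [e2]; group
        _ = 1 := by rw [e, mul_one, mul_inv_cancel]))
    (by rw [e2, show k⁻¹ * (g * g) * k * (k⁻¹ * (g * g) * k) = k⁻¹ * (g * g * (g * g)) * k by group, h4, mul_one,
      inv_mul_cancel])
  have ek : ∀ v, g (k v) = k (g' v) := fun v => (k.apply_symm_apply _).symm
  refine ⟨k v, by rw [ek, ek, hv], ?_⟩
  rw [ek, ← map_add, h.inOb_map hk]
  exact ho

end CfsgLib.Sporadic.LargeFischer.SixTwo
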