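import Cfsg.Agent.Lib.Sporadic.LargeFischer.Explicit.Semilinear
import Cfsg.Agent.Lib.Sporadic.LargeFischer.Lifts

/-!
# Groups of large Fischer type: a conjugate of `z` outside `Q` commuting with `z`
-/

set_option autoImplicit false
set_option linter.style.haveILetI false
set_option linter.unusedSectionVars false
set_option maxRecDepth 100000

namespace CfsgLib.Sporadic.LargeFischer

open CfsgLib.ThreeTransp.Extraspecial Explicit

namespace SixTwo

theorem Anti.inv {g : V6 ≃ₗ[ZMod 2] V6} (hg : Anti g) : Anti g⁻¹ := fun v => g.injective (by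
  show g (g.symm (omV v)) = g (omV (omV (g.symm v)))
  rw [g.apply_symm_apply, hg, hg, g.apply_symm_apply]
  simp only [omV_cube])

/-- A commutator of semilinear maps is linear. -/
theorem lin_commutator {a b : V6 ≃ₗ[ZMod 2] V6} (ha : Lin a ∨ Anti a) (hb : Lin b ∨ Anti b) :
    Lin (a * b * a⁻¹ * b⁻¹) := by
  intro v
  show a (b (a⁻¹ (b⁻¹ (omV v)))) = omV (a (b (a⁻¹ (b⁻¹ v))))
  rcases ha with ha | ha <;> rcases hb with hb | hb
  · rw [Lin.inv hb, Lin.inv ha, hb, ha]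
  · rw [Anti.inv hb, Lin.inv ha, Lin.inv ha, hb, hb, ha, ha, ha, ha]
    simp only [omV_cube]
  · rw [Lin.inv hb, Anti.inv ha, hb, hb, ha, ha]
    simp only [omV_cube]
  · rw [Anti.inv hb, Anti.inv ha, Anti.inv ha, hb, hb, hb, hb, ha, ha, ha, ha, ha, ha, ha, ha]
    simp only [omV_cube]

theorem frV_mul_frV : frV * frV = (1 : V6 ≃ₗ[ZMod 2] V6) :=
  LinearEquiv.ext fun v => funext fun i => (fmul_units (v i)).2.2.2.1

/-- The semilinear elements of a model in standard position. -/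
theorem semilinear_cases {K : Subgroup (V6 ≃ₗ[ZMod 2] V6)} (h : Std K) (hs : ¬ ∀ g ∈ K, Lin g) {t : V6}
    (ht : inOb t = true) : frV * tv t ∈ K ∨ frV ∈ K := by
  obtain ⟨a, ha, hal⟩ : ∃ a ∈ K, ¬ Lin a := by push Not at hs; exact hs
  have hanti : Anti a := (h.model.scal a ha).resolve_left hal
  have hm : frV * a ∈ AL := ⟨fun v => by
      show frV (a (omV v)) = omV (frV (a v))
      rw [hanti, anti_frV, anti_frV]
      simp only [omV_cube],
    fun v => by show qs (frV (a v)) = qs v; rw [qs_frV, h.model.quad a ha],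
    fun v => by show inOb (frV (a v)) = inOb v; rw [inOb_frV, h.inOb_map ha]⟩
  by_cases hk : frV * a ∈ K
  · refine Or.inr ?_
    have := mul_mem hk (inv_mem ha)
    rwa [mul_inv_cancel_right] at this
  · refine Or.inl ?_
    haveI : Finite (V6 ≃ₗ[ZMod 2] V6) := Finite.of_injective _ DFunLike.coe_injective
    have hidx : ((AL ⊓ K).subgroupOf AL).index = 2 := by
      have := ((AL ⊓ K).subgroupOf AL).card_mul_index
      rw [Nat.card_congr (Subgroup.subgroupOfEquivOfLe (inf_le_left : AL ⊓ K ≤ AL)).toEquiv, h.card_linPart hs,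
        card_AL h.tv_mem] at this
      omega
    have htn : tv t ∉ K := fun e => by
      obtain ⟨g, hg, eg⟩ := h.exists_mem ht
      rw [← h.tv_eq_conj hg eg] at e
      refine h.tv_not_mem hs ?_
      simpa [mul_assoc] using mul_mem (mul_mem (inv_mem hg) e) hg
    have := (Subgroup.mul_mem_iff_of_index_two hidx (a := ⟨tv t, h.tv_mem t ht⟩) (b := ⟨frV * a, hm⟩)).2
      ⟨fun e => absurd (Subgroup.mem_subgroupOf.1 e).2 htn, fun e => absurd (Subgroup.mem_subgroupOf.1 e).2 hk⟩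
    have h1 : tv t * frV ∈ K := by
      have hK : tv t * (frV * a) ∈ K := (Subgroup.mem_subgroupOf.1 this).2
      have := mul_mem hK (inv_mem ha)
      change tv t * (frV * a) * a⁻¹ ∈ K at this
      rwa [← mul_assoc, mul_inv_cancel_right] at this
    have h2 := inv_mem h1
    rwa [mul_inv_rev, tv_inv, inv_eq_of_mul_eq_one_left frV_mul_frV] at h2

theorem frame_facts :
    bs (dec 512) c4 = 0 ∧ qs (dec 245) = 0 ∧ inOb (dec 245) = false ∧ dec 245 ≠ 0 ∧ inOb (dec 245 + c4) = true ∧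
    dec 512 + tvFun (dec 1280) (tvFun (dec 1455) (dec 512)) = dec 245 ∧
    tvFun (dec 1280) (tvFun (dec 1455) c4) = c4 ∧ inOb (dec 1280) = true ∧ inOb (dec 1455) = true ∧
    (inOb (dec 17) = true ∧ (fun i => fro (tvFun (dec 17) c4 i)) = c4 ∧
      bs (dec 245) (fun i => fro (tvFun (dec 17) (dec 245) i)) = 1) ∧
    (inOb (dec 5) = true ∧ (fun i => fro (tvFun (dec 5) (tvFun (dec 17) c4) i)) = c4 ∧
      bs (dec 245) (fun i => fro (tvFun (dec 5) (tvFun (dec 17) (dec 245)) i)) = 1) := by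
  decide +kernel

end SixTwo

namespace LF

variable {G : Type*} [Group G] [Finite G] {z : G} {Q : Subgroup (Subgroup.centralizer ({z} : Set G))} [Q.Normal]
  {π : G → V6} {ψ : ↥(Subgroup.centralizer ({z} : Set G)) →* (V6 ≃ₗ[ZMod 2] V6)} (h : LF z (qImg Q) π ψ)
include h

/-- A conjugate `w` of `z` commuting with `z`, acting linearly and outside `Q`, with `wz` outside the class of `z`. -/
theorem exists_partner (hpos : h.model.orb (c6 0) = h.model.orb c2) (hs : ¬ ∀ k ∈ ψ.range, Lin k) {g₀ : G}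
    (hu₀ : g₀ * z * g₀⁻¹ ∈ qImg Q) (hne₀ : g₀ * z * g₀⁻¹ ≠ z) :
    ∃ (g : G) (hw : g * z * g⁻¹ ∈ Subgroup.centralizer ({z} : Set G)),
      g * z * g⁻¹ ∉ qImg Q ∧ Lin (ψ ⟨g * z * g⁻¹, hw⟩) ∧ ¬ IsConj z (g * z * g⁻¹ * z) := by
  have hstd : Std ψ.range := ⟨h.model, hpos⟩
  obtain ⟨g₁, hu₁, hne₁, h4⟩ := h.exists_over_c4 hu₀ hne₀
  obtain ⟨hχ, hηq, hηo, hη0, hηc, hDχ, hD4, o1, o2, ⟨o17, f17, b17⟩, o5, f5, b5⟩ := SixTwo.frame_facts
  set z' := g₁ * z * g₁⁻¹ with hz'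
  -- the lift of the vector and of the product of two transvections
  obtain ⟨x, hxQ, hπx⟩ := h.π_surj (dec 512)
  obtain ⟨d₁, hd₁⟩ := hstd.tv_mul_mem o1 o2
  have hD : ∀ v, ψ d₁ v = tvFun (dec 1280) (tvFun (dec 1455) v) := fun v => by
    rw [hd₁, LinearEquiv.mul_apply, tv_apply (herm_of_inOb o1), tv_apply (herm_of_inOb o2)]
  obtain ⟨d, -, hψd, hdz'⟩ := h.fix_lift hu₁ (by rw [h4]; exact c2_facts.2.2.2) d₁ (by rw [h4, hD, hD4])
  have hxz' : x * z' = z' * x := h.commute_of_bs hxQ hu₁ (by rw [hπx, h4, hχ])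
  set w₀ := x * (d : G) * x⁻¹ * (d : G)⁻¹ with hw₀
  obtain ⟨hdx, hπdx⟩ := h.π_conj d (inv_mem hxQ)
  have hw₀e : w₀ = x * ((d : G) * x⁻¹ * (d : G)⁻¹) := by rw [hw₀]; group
  have hw₀Q : w₀ ∈ qImg Q := hw₀e ▸ mul_mem hxQ hdx
  have hπw₀ : π w₀ = dec 245 := by
    rw [hw₀e, h.π_mul _ hxQ _ hdx, hπdx, h.π_inv hxQ, hπx, hψd, hD, hDχ]
  have hw₀z' : w₀ * z' = z' * w₀ := by
    have hc : ∀ {a : G}, a * z' = z' * a → Commute a z' := fun e => e
    exact (((hc hxz').mul_left (hc hdz')).mul_left (hc hxz').inv_left).mul_left (hc hdz').inv_left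
  -- it is conjugate to `z'`
  have horb : h.model.orb (dec 245) = h.model.orb c4 := by
    refine (h.model.two_orbits.2.2.2.1 _ hηq hη0).resolve_left fun e => ?_
    have := (hstd.orb_iff _).1 (e ▸ h.model.self_mem (dec 245))
    rw [hηo] at this
    exact absurd this (by decide)
  obtain ⟨k, ⟨c, rfl⟩, hk⟩ := h.model.mem_orb.1 (horb ▸ h.model.self_mem (dec 245) : dec 245 ∈ h.model.orb c4)
  obtain ⟨m, hm⟩ := h.conj_of_π hu₁ hw₀Q (by rw [hπw₀]; exact hη0) c (by rw [h4, hπw₀, hk])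
  have hw : g₁⁻¹ * w₀ * g₁ = (g₁⁻¹ * (m : G) * g₁) * z * (g₁⁻¹ * (m : G) * g₁)⁻¹ := by
    rw [← hm, hz']; group
  have hin : ∀ {a : G}, a * z' = z' * a → g₁⁻¹ * a * g₁ ∈ Subgroup.centralizer ({z} : Set G) := fun {a} ha => by
    rw [Subgroup.mem_centralizer_singleton_iff]
    calc g₁⁻¹ * a * g₁ * z = g₁⁻¹ * (a * z') * g₁ := by rw [hz']; group
      _ = z * (g₁⁻¹ * a * g₁) := by rw [ha, hz']; group
  set wc : ↥(Subgroup.centralizer ({z} : Set G)) := ⟨g₁⁻¹ * w₀ * g₁, hin hw₀z'⟩ with hwc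
  refine ⟨g₁⁻¹ * (m : G) * g₁, hw ▸ hin hw₀z', ?_, ?_, ?_⟩
  · rw [← hw]
    intro hwQ
    obtain ⟨Rb, hRb, hsing, -, hinv⟩ := h.inter_image hu₁ hne₁
    rw [← hz', h4] at hinv
    have hmem : dec 245 ∈ Rb := (hRb _).2 ⟨w₀, ⟨hw₀Q, mem_map_conj.2 hwQ⟩, hπw₀⟩
    have hkey : ∀ k ∈ ψ.range, k c4 = c4 → bs (dec 245) (k (dec 245)) = 0 := fun k hk hk4 => by
      show qs (dec 245 + k (dec 245)) + qs (dec 245) + qs (k (dec 245)) = 0
      rw [hsing _ (add_mem hmem (hinv k hk hk4 _ hmem)), hηq, hsing _ (hinv k hk hk4 _ hmem)]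
      rfl
    rcases SixTwo.semilinear_cases hstd hs o17 with hk | hk
    · have he : ∀ v, (frV * tv (dec 17)) v = fun i => fro (tvFun (dec 17) v i) := fun v => funext fun i => by
        rw [LinearEquiv.mul_apply, frV_apply, tv_apply (herm_of_inOb o17)]
      have := hkey _ hk (by rw [he, f17])
      rw [he, b17] at this
      exact absurd this (by decide)
    · have hk' : frV * (tv (dec 5) * tv (dec 17)) ∈ ψ.range := mul_mem hk (hstd.tv_mul_mem o5 o17)
      have he : ∀ v, (frV * (tv (dec 5) * tv (dec 17))) v = fun i => fro (tvFun (dec 5) (tvFun (dec 17) v) i) :=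
        fun v => funext fun i => by
          rw [LinearEquiv.mul_apply, frV_apply, LinearEquiv.mul_apply, tv_apply (herm_of_inOb o5),
            tv_apply (herm_of_inOb o17)]
      have := hkey _ hk' (by rw [he, f5])
      rw [he, b5] at this
      exact absurd this (by decide)
  · have hsplit : wc = (⟨g₁⁻¹ * x * g₁, hin hxz'⟩ : ↥(Subgroup.centralizer ({z} : Set G))) *
        ⟨g₁⁻¹ * (d : G) * g₁, hin hdz'⟩ * (⟨g₁⁻¹ * x * g₁, hin hxz'⟩)⁻¹ * (⟨g₁⁻¹ * (d : G) * g₁, hin hdz'⟩)⁻¹ :=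
      Subtype.ext (by
        show g₁⁻¹ * w₀ * g₁ = g₁⁻¹ * x * g₁ * (g₁⁻¹ * (d : G) * g₁) * (g₁⁻¹ * x * g₁)⁻¹ * (g₁⁻¹ * (d : G) * g₁)⁻¹
        rw [hw₀]; group)
    have : Lin (ψ wc) := by
      rw [hsplit, map_mul, map_mul, map_mul, map_inv, map_inv]
      exact SixTwo.lin_commutator (h.model.scal _ ⟨_, rfl⟩) (h.model.scal _ ⟨_, rfl⟩)
    rwa [show wc = ⟨g₁⁻¹ * (m : G) * g₁ * z * (g₁⁻¹ * (m : G) * g₁)⁻¹, hw ▸ hin hw₀z'⟩ from Subtype.ext hw] at this
  · rw [← hw]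
    intro hc
    have e : g₁⁻¹ * w₀ * g₁ * z = g₁⁻¹ * (w₀ * z') * g₁ := by rw [hz']; group
    have hc' : IsConj z (w₀ * z') := hc.trans (isConj_iff.2 ⟨g₁, by rw [e]; group⟩)
    obtain ⟨f, hf⟩ := isConj_iff.1 hc'
    have hQ : f * z * f⁻¹ ∈ qImg Q := hf ▸ mul_mem hw₀Q hu₁
    have hπ : π (f * z * f⁻¹) = dec 245 + c4 := by rw [hf, h.π_mul _ hw₀Q _ hu₁, hπw₀, h4]
    have hne : f * z * f⁻¹ ≠ z := fun e' => by
      rw [e', h.π_z] at hπ
      rw [← hπ] at hηc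
      exact absurd hηc (by decide)
    have := h.fused_orbit hQ hne
    rw [hπ, h.model.orb_eq ((hstd.orb_iff _).2 hηc)] at this
    exact h.model.two_orbits.1 this

end LF

end CfsgLib.Sporadic.LargeFischer
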