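import Cfsg.Agent.Lib.Sporadic.LargeFischer.SixTwo.Line
import Cfsg.Agent.Lib.Sporadic.LargeFischer.SixTwo.Linear
import Cfsg.Agent.Lib.Sporadic.LargeFischer.SixTwo.Pair

/-!
# Groups of large Fischer type: the four-group in `Q` and in a conjugate of `Q`
-/

set_option autoImplicit false
set_option linter.style.haveILetI false
set_option linter.unusedSectionVars false

namespace CfsgLib.Sporadic.LargeFischer

open CfsgLib.ThreeTransp.Extraspecial Explicit SixTwo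

theorem sc_inj_of_ne {v : V6} (hv : v ≠ 0) {c d : D4} (e : Explicit.sc c v = Explicit.sc d v) : c = d := by
  have key : ∀ c d a : D4, fmul c a = fmul d a → a = 0 ∨ c = d := by decide
  obtain ⟨i, hi⟩ := Function.ne_iff.1 hv
  exact (key c d (v i) (congrFun e i)).resolve_left hi

namespace LF

variable {G : Type*} [Group G] [Finite G] {z : G} {Q : Subgroup (Subgroup.centralizer ({z} : Set G))} [Q.Normal]
  {π : G → V6} {ψ : ↥(Subgroup.centralizer ({z} : Set G)) →* (V6 ≃ₗ[ZMod 2] V6)} (h : LF z (qImg Q) π ψ)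
include h

/-- Elements over the set of 378 vectors are outside the class of `z`. -/
theorem not_conj_of_inOb (hpos : h.model.orb (c6 0) = h.model.orb c2) {a : G} (ha : a ∈ qImg Q)
    (ho : inOb (π a) = true) : ¬ IsConj z a := fun hc => by
  obtain ⟨f, rfl⟩ := isConj_iff.1 hc
  have hne : f * z * f⁻¹ ≠ z := fun e => by
    rw [e, h.π_z] at ho
    exact absurd ho (by decide)
  have := h.fused_orbit ha hne
  rw [h.model.orb_eq (((⟨h.model, hpos⟩ : Std ψ.range).orb_iff _).2 ho)] at this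
  exact h.model.two_orbits.1 this

/-- The other involutions of `Q` are conjugate to `z`. -/
theorem inOb_of_not_conj (hpos : h.model.orb (c6 0) = h.model.orb c2) {g₀ : G} (hu₀ : g₀ * z * g₀⁻¹ ∈ qImg Q)
    (hne₀ : g₀ * z * g₀⁻¹ ≠ z) {a : G} (ha : a ∈ qImg Q) (hq : qs (π a) = 0) (h0 : π a ≠ 0) (hnc : ¬ IsConj z a) :
    inOb (π a) = true := by
  obtain ⟨g, hu, -, h4⟩ := h.exists_over_c4 hu₀ hne₀
  rcases h.model.two_orbits.2.2.2.1 _ hq h0 with e | e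
  · exact ((⟨h.model, hpos⟩ : Std ψ.range).orb_iff _).1 (e ▸ h.model.self_mem (π a))
  · obtain ⟨k, ⟨c, rfl⟩, hk⟩ := h.model.mem_orb.1 (e ▸ h.model.self_mem (π a) : π a ∈ h.model.orb c4)
    obtain ⟨m, hm⟩ := h.conj_of_π hu ha h0 c (by rw [h4, hk])
    exact absurd (isConj_iff.2 ⟨(m : G) * g, by rw [← hm]; group⟩) hnc

/-- The four-group. -/
theorem exists_line_pair (hpos : h.model.orb (c6 0) = h.model.orb c2) (hs : ¬ ∀ k ∈ ψ.range, Lin k) {g₀ : G}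
    (hu₀ : g₀ * z * g₀⁻¹ ∈ qImg Q) (hne₀ : g₀ * z * g₀⁻¹ ≠ z) :
    ∃ (g : G) (E : Subgroup G) (v v' : V6), g * z * g⁻¹ * z = z * (g * z * g⁻¹) ∧ g * z * g⁻¹ ∉ qImg Q ∧
      IsLine z (qImg Q) π v E ∧ IsLine z (qImg Q) π v' (E.map (MulAut.conj g⁻¹).toMonoidHom) := by
  classical
  haveI : Finite (V6 ≃ₗ[ZMod 2] V6) := Finite.of_injective _ DFunLike.coe_injective
  have hstd : Std ψ.range := ⟨h.model, hpos⟩
  obtain ⟨g, hw, hwQ, hlin, hwz⟩ := h.exists_partner hpos hs hu₀ hne₀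
  set w := g * z * g⁻¹ with hwdef
  set wc : ↥(Subgroup.centralizer ({z} : Set G)) := ⟨w, hw⟩ with hwc
  have hwcomm : w * z = z * w := Subgroup.mem_centralizer_singleton_iff.1 hw
  have hzz : z * z = 1 := h.extra.z_sq
  have hww : w * w = 1 := by
    rw [hwdef, show g * z * g⁻¹ * (g * z * g⁻¹) = g * (z * z) * g⁻¹ by group, hzz, mul_one, mul_inv_cancel]
  have hin : ∀ {a : G}, a * w = w * a → g⁻¹ * a * g ∈ Subgroup.centralizer ({z} : Set G) := fun {a} ha => by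
    rw [Subgroup.mem_centralizer_singleton_iff]
    calc g⁻¹ * a * g * z = g⁻¹ * (a * w) * g := by rw [hwdef]; group
      _ = z * (g⁻¹ * a * g) := by rw [ha, hwdef]; group
  -- `z` is outside the conjugate of `Q`
  have hzn : g⁻¹ * z * g ∉ qImg Q := fun e => by
    have e' : g⁻¹ * z * g⁻¹⁻¹ ∈ qImg Q := by rwa [inv_inv]
    have hne : g⁻¹ * z * g⁻¹⁻¹ ≠ z := fun e1 => hwQ (by
      rw [show w = z from by
        calc w = g * (g⁻¹ * z * g⁻¹⁻¹) * g⁻¹ := by rw [e1]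
          _ = z := by group]
      exact h.extra.z_mem)
    have := h.symm_mem e' hne
    rw [inv_inv] at this
    exact hwQ this
  have hzn1 : z * z = 1 ∧ ∀ a, a ∈ qImg Q → g⁻¹ * a * g ∈ qImg Q → a ≠ z := ⟨hzz, fun a _ h2 e => hzn (e ▸ h2)⟩
  -- centralisers
  have hfixw : ∀ a ∈ qImg Q, ψ wc (π a) = π a → a * w = w * a := by
    intro a ha e
    obtain ⟨hm, he⟩ := h.π_conj wc ha
    rcases (h.π_eq_iff ha hm).1 (he.trans e).symm with e1 | e1
    · exact (mul_inv_eq_iff_eq_mul.1 e1).symm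
    · exfalso
      refine hwz (IsConj.trans (isConj_iff.2 ⟨g, rfl⟩ : IsConj z w) (isConj_iff.2 ⟨a⁻¹, ?_⟩))
      change w * a * w⁻¹ = a * z at e1
      calc a⁻¹ * w * a⁻¹⁻¹ = a⁻¹ * (w * a * w⁻¹) * w := by group
        _ = w * z := by rw [e1, show a⁻¹ * (a * z) * w = z * w by group, hwcomm]
  set zc : ↥(Subgroup.centralizer ({z} : Set G)) := ⟨g⁻¹ * z * g, hin hwcomm.symm⟩ with hzc
  have hfixz : ∀ b ∈ qImg Q, ψ zc (π b) = π b → g * b * g⁻¹ * z = z * (g * b * g⁻¹) := by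
    intro b hb e
    obtain ⟨hm, he⟩ := h.π_conj zc hb
    rcases (h.π_eq_iff hb hm).1 (he.trans e).symm with e1 | e1
    · have e2 : g⁻¹ * z * g * b = b * (g⁻¹ * z * g) := mul_inv_eq_iff_eq_mul.1 e1
      calc g * b * g⁻¹ * z = g * (b * (g⁻¹ * z * g)) * g⁻¹ := by group
        _ = z * (g * b * g⁻¹) := by rw [← e2]; group
    · exfalso
      refine hwz (isConj_iff.2 ⟨(g * b * g⁻¹)⁻¹, ?_⟩)
      change g⁻¹ * z * g * b * (g⁻¹ * z * g)⁻¹ = b * z at e1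
      calc (g * b * g⁻¹)⁻¹ * z * (g * b * g⁻¹)⁻¹⁻¹ = g * b⁻¹ * (g⁻¹ * z * g * b * (g⁻¹ * z * g)⁻¹) * g⁻¹ * z := by group
        _ = w * z := by rw [e1, hwdef]; group
  -- an element of order four of `Q` acting linearly on the second coordinates
  set f := ψ wc with hf
  have hfK : f ∈ ψ.range := ⟨wc, rfl⟩
  have hf1 : f ≠ 1 := fun e => hwQ ((h.ker wc).1 e)
  have hf2 : f * f = 1 := by
    rw [hf, ← map_mul, show wc * wc = 1 from Subtype.ext hww, map_one]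
  obtain ⟨h256, hUsing, hUpts⟩ := linear_disp hstd hs hfK hlin hf1 hf2
  have hlift : ∀ {v}, f v = v → ∃ a, a ∈ qImg Q ∧ a * w = w * a ∧ π a = v := fun {v} hv => by
    obtain ⟨a, ha, ea⟩ := h.π_surj v
    exact ⟨a, ha, hfixw a ha (by rw [ea]; exact hv), ea⟩
  obtain ⟨a, haQ, haw, haq, hal⟩ : ∃ a, ∃ haQ : a ∈ qImg Q, ∃ haw : a * w = w * a,
      qs (π a) = 1 ∧ Lin (ψ ⟨g⁻¹ * a * g, hin haw⟩) := by
    by_contra hcon
    have hzero : ∀ (a : G) (haw : a * w = w * a), a ∈ qImg Q → Lin (ψ ⟨g⁻¹ * a * g, hin haw⟩) → qs (π a) = 0 :=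
      fun a haw haQ hl => (z2 _).resolve_right fun e => hcon ⟨a, haQ, haw, e, hl⟩
    have hmul : ∀ a b (ha : a * w = w * a) (hb : b * w = w * b),
        ψ ⟨g⁻¹ * (a * b) * g, hin ((show Commute a w from ha).mul_left hb)⟩ =
          ψ ⟨g⁻¹ * a * g, hin ha⟩ * ψ ⟨g⁻¹ * b * g, hin hb⟩ := fun a b ha hb => by
      rw [← map_mul]
      exact congrArg ψ (Subtype.ext (by show g⁻¹ * (a * b) * g = g⁻¹ * a * g * (g⁻¹ * b * g); group))
    let P : AddSubgroup V6 :=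
      { carrier := {v | ∃ a, ∃ haw : a * w = w * a, a ∈ qImg Q ∧ π a = v ∧ Lin (ψ ⟨g⁻¹ * a * g, hin haw⟩)}
        add_mem' := by
          rintro _ _ ⟨a, ha, haQ, rfl, hla⟩ ⟨b, hb, hbQ, rfl, hlb⟩
          exact ⟨a * b, (show Commute a w from ha).mul_left hb, mul_mem haQ hbQ, h.π_mul a haQ b hbQ,
            (hmul a b ha hb).symm ▸ Lin.mul hla hlb⟩
        zero_mem' := ⟨1, by rw [one_mul, mul_one], one_mem _, h.π_one, by
          rw [show (⟨g⁻¹ * 1 * g, _⟩ : ↥(Subgroup.centralizer ({z} : Set G))) = 1 from Subtype.ext (by simp), map_one]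
          exact Lin.one⟩
        neg_mem' := fun {v} hv => by
          rwa [show -v = v from funext fun i => CharTwo.neg_eq _] }
    have hP : ∀ v ∈ P, qs v = 0 := by
      rintro _ ⟨a, ha, haQ, rfl, hla⟩; exact hzero a ha haQ hla
    have hP64 := singular_card_le P hP
    obtain ⟨v₀, hv₀⟩ : ∃ v₀, ∀ v, f v = v → v ∈ P ∨ v + v₀ ∈ P := by
      by_cases hex : ∃ a, ∃ haw : a * w = w * a, a ∈ qImg Q ∧ ¬ Lin (ψ ⟨g⁻¹ * a * g, hin haw⟩)
      · obtain ⟨b, hb, hbQ, hbl⟩ := hex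
        refine ⟨π b, fun v hv => ?_⟩
        obtain ⟨a, ha, haw, rfl⟩ := hlift hv
        by_cases hla : Lin (ψ ⟨g⁻¹ * a * g, hin haw⟩)
        · exact Or.inl ⟨a, haw, ha, rfl, hla⟩
        · refine Or.inr ⟨a * b, (show Commute a w from haw).mul_left hb, mul_mem ha hbQ, h.π_mul a ha b hbQ, ?_⟩
          rw [hmul a b haw hb]
          intro x
          have h1 := (h.model.scal _ ⟨⟨g⁻¹ * a * g, hin haw⟩, rfl⟩).resolve_left hla
          have h2 := (h.model.scal _ ⟨⟨g⁻¹ * b * g, hin hb⟩, rfl⟩).resolve_left hbl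
          rw [LinearEquiv.mul_apply, LinearEquiv.mul_apply, h2, h1, h1]
          simp only [omV_cube]
      · push Not at hex
        refine ⟨0, fun v hv => ?_⟩
        obtain ⟨a, ha, haw, rfl⟩ := hlift hv
        exact Or.inl ⟨a, haw, ha, rfl, hex a haw ha⟩
    have hsub : (fixSub f : Set V6) ⊆ (P : Set V6) ∪ (fun v => v + v₀) '' (P : Set V6) := fun v hv => by
      rcases hv₀ v (mem_fixSub.1 hv) with e | e
      · exact Or.inl e
      · exact Or.inr ⟨_, e, by show v + v₀ + v₀ = v; rw [add_assoc, two_V6, add_zero]⟩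
    have h1 := (Set.ncard_le_ncard hsub (Set.toFinite _)).trans (Set.ncard_union_le _ _)
    have h2 : ((fun v => v + v₀) '' (P : Set V6)).ncard ≤ (P : Set V6).ncard :=
      Set.ncard_image_le (Set.toFinite _)
    rw [← SetLike.coe_sort_coe, Nat.card_coe_set_eq] at h256 hP64
    omega
  set ac : ↥(Subgroup.centralizer ({z} : Set G)) := ⟨g⁻¹ * a * g, hin haw⟩ with hac
  have haa : a * a = z := by rw [h.sq_eq haQ, haq, zp_one]
  have hac2 : ac * ac = zc := Subtype.ext (by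
    show g⁻¹ * a * g * (g⁻¹ * a * g) = g⁻¹ * z * g
    rw [← haa]; group)
  set x := ψ ac with hx
  have hx2 : x * x = ψ zc := by rw [hx, ← map_mul, hac2]
  have hzc2 : zc * zc = 1 := Subtype.ext (by
    show g⁻¹ * z * g * (g⁻¹ * z * g) = 1
    rw [show g⁻¹ * z * g * (g⁻¹ * z * g) = g⁻¹ * (z * z) * g by group, hzz]; group)
  obtain ⟨v, hvfix, hvob⟩ := linear_four hstd hs ⟨ac, rfl⟩ hal (by rw [hx2]; exact fun e => hzn ((h.ker zc).1 e))
    (by rw [hx2, ← map_mul, hzc2, map_one])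
  rw [← hx] at hvfix hvob
  set u := x v + v with hu
  have hu0 : u ≠ 0 := fun e => by rw [e] at hvob; exact absurd hvob (by decide)
  -- the two commutators
  have hcomm : ∀ v', x (x v') = v' → ∃ e ∈ qImg Q, g⁻¹ * e * g ∈ qImg Q ∧ π (g⁻¹ * e * g) = x v' + v' := by
    intro v' hv'
    obtain ⟨b, hb, hπb⟩ := h.π_surj v'
    have hbz : g * b * g⁻¹ * z = z * (g * b * g⁻¹) := hfixz b hb (by rw [← hx2, hπb]; exact hv')
    have heq : g⁻¹ * (a * (g * b * g⁻¹) * a⁻¹ * (g * b * g⁻¹)⁻¹) * g = (ac : G) * b * (ac : G)⁻¹ * b⁻¹ := by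
      show _ = g⁻¹ * a * g * b * (g⁻¹ * a * g)⁻¹ * b⁻¹
      group
    refine ⟨a * (g * b * g⁻¹) * a⁻¹ * (g * b * g⁻¹)⁻¹, ?_, ?_, ?_⟩
    · rw [show a * (g * b * g⁻¹) * a⁻¹ * (g * b * g⁻¹)⁻¹ = a * ((g * b * g⁻¹) * a⁻¹ * (g * b * g⁻¹)⁻¹) by group]
      exact mul_mem haQ (h.norm _ hbz _ (inv_mem haQ))
    · rw [heq]; exact mul_mem (h.π_conj ac hb).1 (inv_mem hb)
    · rw [heq, h.π_mul _ (h.π_conj ac hb).1 _ (inv_mem hb), h.π_inv hb, (h.π_conj ac hb).2, hπb]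
  obtain ⟨e, heQ, heQ', hπe'⟩ := hcomm v hvfix
  obtain ⟨e₁, he₁Q, he₁Q', hπe₁'⟩ := hcomm (omV v) (by rw [hal, hal, hvfix])
  rw [← hu] at hπe'
  rw [hal, ← show omV (x v + v) = omV (x v) + omV v by rw [omV_eq, omV_eq, omV_eq, Explicit.sc_add], ← hu] at hπe₁'
  -- elements of both groups
  set T := qImg Q ⊓ (qImg Q).map (MulAut.conj g).toMonoidHom with hT
  have hTmem : ∀ {t}, t ∈ T ↔ t ∈ qImg Q ∧ g⁻¹ * t * g ∈ qImg Q := fun {t} => by
    rw [hT, Subgroup.mem_inf, mem_map_conj]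
  have hTsq : ∀ t ∈ T, t * t = 1 := fun t ht => by
    obtain ⟨ht1, ht2⟩ := hTmem.1 ht
    refine (h.extra.sq_cases ht1).resolve_right fun e1 => hzn ?_
    have h3 := mul_mem ht2 ht2
    rwa [show g⁻¹ * t * g * (g⁻¹ * t * g) = g⁻¹ * (t * t) * g by group, e1] at h3
  have hTπ : ∀ {s t}, s ∈ T → t ∈ T → π s = π t → s = t := fun {s t} hs' ht e1 => by
    rcases (h.π_eq_iff (hTmem.1 hs').1 (hTmem.1 ht).1).1 e1 with e2 | e2
    · exact e2.symm
    · exfalso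
      have : s⁻¹ * t ∈ T := mul_mem (inv_mem hs') ht
      rw [e2, inv_mul_cancel_left] at this
      exact hzn (hTmem.1 this).2
  let R : AddSubgroup V6 :=
    { carrier := {r | ∃ t ∈ T, π t = r}
      add_mem' := by
        rintro _ _ ⟨s, hs', rfl⟩ ⟨t, ht, rfl⟩
        exact ⟨s * t, mul_mem hs' ht, h.π_mul s (hTmem.1 hs').1 t (hTmem.1 ht).1⟩
      zero_mem' := ⟨1, one_mem _, h.π_one⟩
      neg_mem' := fun {r} hr => by rwa [show -r = r from funext fun i => CharTwo.neg_eq _] }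
  have hR : R ≤ (disp f).range := by
    refine le_disp (h.model.quad f hfK) hf2 hUsing R ?_ ?_
    · rintro _ ⟨t, ht, rfl⟩; exact (h.q_iff t (hTmem.1 ht).1).2 (hTsq t ht)
    · rintro _ ⟨t, ht, rfl⟩ r hr
      obtain ⟨c, hc, hcw, rfl⟩ := hlift (mem_fixSub.1 hr)
      obtain ⟨ht1, ht2⟩ := hTmem.1 ht
      refine h.bs_of_commute hc ht1 ?_
      rcases h.extra.conj_cases ht1 hc with e1 | e1
      · exact mul_inv_eq_iff_eq_mul.1 e1
      · exfalso
        have h3 := centralizer_conj_le h.normalizer g hcw ht2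
        rw [e1] at h3
        have h4 := mul_mem (inv_mem ht2) h3
        rw [show (g⁻¹ * t * g)⁻¹ * (g⁻¹ * (t * z) * g) = g⁻¹ * z * g by group] at h4
        exact hzn h4
  have heT : e ∈ T := hTmem.2 ⟨heQ, heQ'⟩
  have he₁T : e₁ ∈ T := hTmem.2 ⟨he₁Q, he₁Q'⟩
  have hob : ∀ {t}, t ∈ T → inOb (π (g⁻¹ * t * g)) = true → inOb (π t) = true := fun {t} ht ho => by
    obtain ⟨ht1, ht2⟩ := hTmem.1 ht
    have hnc : ¬ IsConj z t := fun hc => h.not_conj_of_inOb hpos ht2 ho (hc.trans (isConj_iff.2 ⟨g⁻¹, by group⟩))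
    refine h.inOb_of_not_conj hpos hu₀ hne₀ ht1 ((h.q_iff t ht1).2 (hTsq t ht)) (fun e1 => ?_) hnc
    rw [← h.π_one] at e1
    rw [hTπ ht (one_mem _) e1, show g⁻¹ * 1 * g = 1 by group, h.π_one] at ho
    exact absurd ho (by decide)
  have hconj : ∀ {s t}, s ∈ T → t ∈ T → π (g⁻¹ * (s * t) * g) = π (g⁻¹ * s * g) + π (g⁻¹ * t * g) := fun {s t} hs' ht => by
    rw [← h.π_mul _ (hTmem.1 hs').2 _ (hTmem.1 ht).2]
    congr 1
    group
  have hscal : ∀ k : D4, k ≠ 0 → inOb (Explicit.sc k u) = true := fun k hk => by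
    have key : ∀ k : D4, k ≠ 0 → k = (1, 0) ∨ k = (0, 1) ∨ k = (1, 1) := by decide
    have hω : ∀ y, inOb (omV y) = inOb y := fun y => beq_iff_eq.1
      (forall_of_codes (p := fun y => inOb (omV y) == inOb y) (by decide +kernel) y)
    rcases key k hk with rfl | rfl | rfl
    · rw [Explicit.sc_one]; exact hvob
    · rw [← omV_eq, hω]; exact hvob
    · rw [Explicit.sc_ww, hω, hω]; exact hvob
  have he0 : inOb (π e) = true := hob heT (by rw [hπe']; exact hvob)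
  have he10 : inOb (π e₁) = true := hob he₁T (by rw [hπe₁', omV_eq]; exact hscal _ (by decide))
  have he20 : inOb (π e + π e₁) = true := by
    rw [← h.π_mul e heQ e₁ he₁Q]
    refine hob (mul_mem heT he₁T) ?_
    rw [hconj heT he₁T, hπe', hπe₁']
    nth_rw 1 [← Explicit.sc_one u]
    rw [omV_eq, ← Explicit.add_sc]
    exact hscal _ (by decide)
  obtain ⟨c, hc, hπ₁⟩ : ∃ c : D4, (c = (0, 1) ∨ c = (1, 1)) ∧ π e₁ = Explicit.sc c (π e) := by
    rcases hUpts _ (hR ⟨e, heT, rfl⟩) _ (hR ⟨e₁, he₁T, rfl⟩) he0 he10 he20 with e1 | e1 | e1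
    · exfalso
      rw [hTπ he₁T heT e1, hπe'] at hπe₁'
      exact hu0 (funext fun i => (omV_om (u i)).2.2 (congrFun hπe₁'.symm i))
    · exact ⟨_, Or.inl rfl, by rw [e1, omV_eq]⟩
    · exact ⟨_, Or.inr rfl, by rw [e1, Explicit.sc_ww]⟩
  have hv0 : π e ≠ 0 := fun e1 => by rw [e1] at he0; exact absurd he0 (by decide)
  let E : Subgroup G :=
    { carrier := {t | t ∈ T ∧ ∃ k, π t = Explicit.sc k (π e)}
      one_mem' := ⟨one_mem _, 0, by rw [h.π_one, Explicit.sc_zero]⟩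
      mul_mem' := by
        rintro s t ⟨hs', j, hj⟩ ⟨ht, k, hk⟩
        exact ⟨mul_mem hs' ht, j + k, by rw [h.π_mul s (hTmem.1 hs').1 t (hTmem.1 ht).1, hj, hk, Explicit.add_sc]⟩
      inv_mem' := by
        rintro t ⟨ht, k, hk⟩
        exact ⟨inv_mem ht, k, by rw [h.π_inv (hTmem.1 ht).1, hk]⟩ }
  have hsurj : ∀ k : D4, ∃ t ∈ E, π t = Explicit.sc k (π e) := by
    have key : ∀ c k : D4, (c = (0, 1) ∨ c = (1, 1)) → k = 0 ∨ k = (1, 0) ∨ k = c ∨ k = (1, 0) + c := by decide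
    intro k
    have e0 : π e = Explicit.sc (1, 0) (π e) := (Explicit.sc_one _).symm
    rcases key c k hc with rfl | rfl | rfl | rfl
    · exact ⟨1, one_mem _, by rw [h.π_one, Explicit.sc_zero]⟩
    · exact ⟨e, ⟨heT, _, e0⟩, e0⟩
    · exact ⟨e₁, ⟨he₁T, _, hπ₁⟩, hπ₁⟩
    · refine ⟨e * e₁, mul_mem (show e ∈ E from ⟨heT, _, e0⟩) (show e₁ ∈ E from ⟨he₁T, _, hπ₁⟩), ?_⟩
      rw [h.π_mul e heQ e₁ he₁Q, hπ₁, Explicit.add_sc, Explicit.sc_one]
  choose φ hφE hφ using hsurj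
  have hcard : Nat.card E = 4 := by
    have hbij : Function.Bijective fun k : D4 => (⟨φ k, hφE k⟩ : E) := by
      refine ⟨fun j k e1 => sc_inj_of_ne hv0 ?_, ?_⟩
      · rw [← hφ j, ← hφ k]; exact congrArg π (congrArg Subtype.val e1)
      · rintro ⟨t, ht, k, hk⟩
        exact ⟨k, Subtype.ext (hTπ (hφE k).1 ht (by rw [hφ k, hk]))⟩
    rw [← Nat.card_congr (Equiv.ofBijective _ hbij), Nat.card_prod, Nat.card_zmod]
  refine ⟨g, E, π e, u, hwcomm, hwQ, ⟨fun t ht => (hTmem.1 ht.1).1, hcard, fun hz' => hzn (hTmem.1 hz'.1).2, he0,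
    fun t ht => ht.2⟩, ⟨?_, ?_, ?_, hvob, ?_⟩⟩
  · rintro _ ⟨t, ht, rfl⟩
    show g⁻¹ * t * g⁻¹⁻¹ ∈ qImg Q
    rw [inv_inv]; exact (hTmem.1 ht.1).2
  · rw [Subgroup.card_map_of_injective (MulAut.conj g⁻¹).injective, hcard]
  · rintro ⟨t, ht, ht'⟩
    change g⁻¹ * t * g⁻¹⁻¹ = z at ht'
    rw [inv_inv] at ht'
    refine hwQ ?_
    rw [show w = t by rw [hwdef, ← ht']; group]
    exact (hTmem.1 ht.1).1
  · rintro _ ⟨t, ht, rfl⟩
    show ∃ k, π (g⁻¹ * t * g⁻¹⁻¹) = Explicit.sc k u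
    rw [inv_inv]
    obtain ⟨ht', k, hk⟩ := ht
    have key : ∀ c k : D4, (c = (0, 1) ∨ c = (1, 1)) → k = 0 ∨ k = (1, 0) ∨ k = c ∨ k = (1, 0) + c := by decide
    have e0 : π e = Explicit.sc (1, 0) (π e) := (Explicit.sc_one _).symm
    rcases key c k hc with rfl | rfl | rfl | rfl
    · rw [hTπ ht' (one_mem _) (by rw [hk, h.π_one, Explicit.sc_zero]), show g⁻¹ * 1 * g = 1 by group, h.π_one]
      exact ⟨0, (Explicit.sc_zero u).symm⟩
    · rw [hTπ ht' heT (hk.trans e0.symm), hπe']; exact ⟨_, (Explicit.sc_one u).symm⟩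
    · rw [hTπ ht' he₁T (hk.trans hπ₁.symm), hπe₁']; exact ⟨_, omV_eq u⟩
    · rw [hTπ ht' (mul_mem heT he₁T) (by rw [hk, h.π_mul e heQ e₁ he₁Q, hπ₁, Explicit.add_sc, Explicit.sc_one]), hconj heT he₁T,
        hπe', hπe₁']
      refine ⟨(1, 0) + (0, 1), ?_⟩
      rw [Explicit.add_sc, Explicit.sc_one, omV_eq]

end LF

end CfsgLib.Sporadic.LargeFischer
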