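import Cfsg.Agent.Lib.Sporadic.LargeFischer.SixTwo.CenterExport
import Cfsg.Agent.Lib.Sporadic.LargeFischer.SixTwo.Square

/-!
# Groups of large Fischer type: a four-group with centraliser a cover of `PSU₆(2)`
-/

set_option autoImplicit false
set_option linter.style.haveILetI false
set_option linter.unusedSectionVars false

namespace CfsgLib.Sporadic.LargeFischer

open SixTwo

theorem sc_explicit (v : V6) (a : D4) : Explicit.sc a v = sc v a := by
  rcases Explicit.D4_cases a with rfl | rfl | rfl | rfl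
  · rw [Explicit.sc_zero]; simp [sc]
  · rw [Explicit.sc_one, sc_one]
  · rw [← Explicit.omV_eq, sc_om]
  · rw [Explicit.sc_ww, omV_sq]; simp [sc]

namespace LF

variable {G : Type*} [Group G] [Finite G] {z : G} {Q : Subgroup (Subgroup.centralizer ({z} : Set G))} [Q.Normal]
  {π : G → V6} {ψ : ↥(Subgroup.centralizer ({z} : Set G)) →* (V6 ≃ₗ[ZMod 2] V6)} (h : LF z (qImg Q) π ψ)
include h

/-- A four-group over a line whose centraliser is a cover of `PSU₆(2)`. -/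
theorem exists_line_u62 (hpos : h.model.orb (c6 0) = h.model.orb c2) (hs : ¬ ∀ k ∈ ψ.range, Explicit.Lin k) {g₀ : G}
    (hu₀ : g₀ * z * g₀⁻¹ ∈ qImg Q) (hne₀ : g₀ * z * g₀⁻¹ ≠ z) :
    ∃ E : Subgroup G, E ≤ qImg Q ∧ Cfsg.IsElementaryAbelian 2 E ∧ Nat.card E = 4 ∧ z ∉ E ∧
      (∃ t ∈ E, orderOf t = 2 ∧ ¬ IsConj z t) ∧
      (∃ w, w ∈ h.model.orb c2 ∧ ∀ a ∈ E, ∃ e : D4, π a = sc w e) ∧
      Cfsg.IsQuasisimple ↥(Subgroup.centralizer (E : Set G)) ∧
      ∃ (_ : (E.subgroupOf (Subgroup.centralizer (E : Set G))).Normal) (K : Type) (_ : Field K) (_ : Fintype K),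
        Fintype.card K = 4 ∧ Nonempty (↥(Subgroup.centralizer (E : Set G)) ⧸
          E.subgroupOf (Subgroup.centralizer (E : Set G)) ≃* Cfsg.PSU 6 K 2) := by
  obtain ⟨g, E, v, v', hwz, hwQ, hE, hE'⟩ := h.exists_line_pair hpos hs hu₀ hne₀
  obtain ⟨hq, hiso⟩ := h.line_centralizer hpos hs hwz hwQ hE hE'
  have hsq : ∀ a ∈ E, a * a = 1 := fun a ha => by
    refine (h.q_iff a (hE.le ha)).1 ?_
    by_cases h1 : a = 1
    · rw [h1, h.π_one]; rfl
    · exact Explicit.qs_of_inOb (h.line_pos hpos hE ha h1)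
  refine ⟨E, hE.le, ⟨⟨⟨fun a b => Subtype.ext
    (Subgroup.mem_centralizer_iff.1 (h.line_commutative hpos hE b.2) a a.2)⟩⟩, fun a ha => ?_⟩, hE.card, hE.notMem,
    ?_, ⟨v, ((h.std hpos).orb_iff v).2 hE.pos, fun a ha => ?_⟩, hq, hiso⟩
  · rw [pow_two]; exact hsq a ha
  · obtain ⟨a₀, ha₀, a₁, -, e₀, -, -⟩ := h.line_gens hpos hE
    have h1 : a₀ ≠ 1 := fun e => h.line_ne hpos hE.pos (by rw [← e₀, e, h.π_one])
    exact ⟨a₀, ha₀, orderOf_eq_prime (by rw [pow_two]; exact hsq a₀ ha₀) h1,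
      h.not_conj_of_inOb hpos (hE.le ha₀) (h.line_pos hpos hE ha₀ h1)⟩
  · obtain ⟨c, hc⟩ := hE.line a ha
    exact ⟨c, hc.trans (sc_explicit v c)⟩

end LF

end CfsgLib.Sporadic.LargeFischer
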