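import Cfsg.Agent.Lib.Sporadic.LargeFischer.SixTwo.CenterLine
import Cfsg.Prelude.Def_CaseTheorems

/-!
# Groups of large Fischer type: the centraliser of a line four-group is quasisimple
-/

set_option autoImplicit false
set_option linter.style.haveILetI false
set_option linter.unusedSectionVars false
set_option maxRecDepth 100000

namespace CfsgLib.Sporadic.LargeFischer.SixTwo

open Explicit

/-- Three vectors orthogonal to `c2`, adding up to it, in the set of 378 vectors. -/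
def qsVec : Fin 3 → V6
  | 0 => ![(1, 0), (1, 0), (1, 0), (1, 0), (1, 0), (1, 0)]
  | 1 => ![(1, 0), (1, 0), (0, 1), (0, 1), (1, 1), (1, 1)]
  | 2 => ![(1, 0), (1, 0), (1, 1), (1, 1), (0, 1), (0, 1)]

/-- The vector moved onto `qsVec i`. -/
def qsSrc (i : Fin 3) : V6 := fun j => if j = 2 then qsVec i 2 else 0

theorem qsVec_ok : ∀ i, inOb (qsVec i) = true ∧ herm (qsVec i) (qsVec i) = 0 ∧
    tvFun (qsVec i) (tvFun c2 c2) = c2 ∧
    (bs (qsSrc i) c2 = 0 ∧ bs (qsSrc i) (omV c2) = 0) ∧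
    (bs (omV (qsSrc i)) c2 = 0 ∧ bs (omV (qsSrc i)) (omV c2) = 0) ∧
    tvFun (qsVec i) (tvFun c2 (qsSrc i)) + qsSrc i = qsVec i ∧
    tvFun (qsVec i) (tvFun c2 (omV (qsSrc i))) + omV (qsSrc i) = omV (qsVec i) := by
  decide +kernel

theorem qsVec_sum : qsVec 0 + qsVec 1 + qsVec 2 = c2 ∧
    omV (qsVec 0) + omV (qsVec 1) + omV (qsVec 2) = omV c2 ∧
    bs (qsSrc 0) (omV (qsSrc 0)) = 1 := by
  decide +kernel

end CfsgLib.Sporadic.LargeFischer.SixTwo

namespace CfsgLib.Sporadic.LargeFischer.LF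

open SixTwo

variable {G : Type*} [Group G] [Finite G] {z : G} {Q : Subgroup (Subgroup.centralizer ({z} : Set G))} [Q.Normal]
  {π : G → V6} {ψ : ↥(Subgroup.centralizer ({z} : Set G)) →* (V6 ≃ₗ[ZMod 2] V6)} (h : LF z (qImg Q) π ψ)
  (hpos : h.model.orb (c6 0) = h.model.orb c2) (hs : ¬ ∀ k ∈ ψ.range, Explicit.Lin k)
include h hpos

set_option maxHeartbeats 400000

/-- A line four-group lies in the derived group of its centraliser. -/
theorem line_le_derived {E : Subgroup G} (hE : IsLine z (qImg Q) π c2 E) :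
    E ≤ ⁅Subgroup.centralizer (E : Set G), Subgroup.centralizer (E : Set G)⁆ := by
  set C := Subgroup.centralizer (E : Set G) with hC
  set D := ⁅C, C⁆ with hD
  have lift : ∀ u : V6, bs u c2 = 0 → bs u (omV c2) = 0 → ∃ q ∈ qImg Q, q ∈ C ∧ π q = u := fun u h1 h2 => by
    obtain ⟨q, hq, e⟩ := h.π_surj u
    exact ⟨q, hq, (h.q_mem_cent_line hpos hE hq).2 (by rw [e]; exact ⟨h1, h2⟩), e⟩
  let P : V6 → Prop := fun v => ∃ d ∈ qImg Q, d ∈ D ∧ π d = v
  have hadd : ∀ u v, P u → P v → P (u + v) := by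
    rintro u v ⟨d, hd, hdD, rfl⟩ ⟨d', hd', hdD', rfl⟩
    exact ⟨d * d', mul_mem hd hd', mul_mem hdD hdD', h.π_mul d hd d' hd'⟩
  have hmove : ∀ i : Fin 3, P (qsVec i) ∧ P (omV (qsVec i)) := fun i => by
    obtain ⟨o, hh, hf, ⟨b1, b2⟩, ⟨b3, b4⟩, e1, e2⟩ := qsVec_ok i
    have hk : Explicit.tv (qsVec i) * Explicit.tv c2 ∈ lineStab ψ.range := by
      refine ⟨⟨mul_mem ((h.std hpos).tv_mem _ o) ((h.std hpos).tv_mem _ Explicit.inOb_c2), fun j hj => ?_⟩,
        (h.std hpos).tv_mul_mem o Explicit.inOb_c2⟩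
      rw [show j = 0 by omega, Explicit.pre_zero]
      show Explicit.tv (qsVec i) (Explicit.tv c2 c2) = c2
      rw [Explicit.tv_apply (Explicit.herm_of_inOb Explicit.inOb_c2), Explicit.tv_apply hh, hf]
    rw [← h.lineAct_range hpos hE] at hk
    obtain ⟨⟨c, hcC, hcz⟩, hc⟩ := hk
    have hc' : ψ ⟨c, hcz⟩ = Explicit.tv (qsVec i) * Explicit.tv c2 := hc
    have key : ∀ u : V6, bs u c2 = 0 → bs u (omV c2) = 0 →
        P (Explicit.tvFun (qsVec i) (Explicit.tvFun c2 u) + u) := fun u h1 h2 => by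
      obtain ⟨q, hq, hqC, hqu⟩ := lift u h1 h2
      obtain ⟨hm, he⟩ := h.π_conj ⟨c, hcz⟩ hq
      refine ⟨c * q * c⁻¹ * q⁻¹, mul_mem hm (inv_mem hq), Subgroup.commutator_mem_commutator hcC hqC, ?_⟩
      have e : π (c * q * c⁻¹) = π (c * q * c⁻¹ * q⁻¹) + π q := by
        rw [← h.π_mul _ (mul_mem hm (inv_mem hq)) _ hq, inv_mul_cancel_right]
      rw [he, hc', hqu] at e
      have e3 : Explicit.tvFun (qsVec i) (Explicit.tvFun c2 u) = Explicit.tv (qsVec i) (Explicit.tv c2 u) := by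
        rw [Explicit.tv_apply (Explicit.herm_of_inOb Explicit.inOb_c2), Explicit.tv_apply hh]
      rw [e3, show Explicit.tv (qsVec i) (Explicit.tv c2 u) = (Explicit.tv (qsVec i) * Explicit.tv c2) u from rfl, e, add_assoc,
        show u + u = 0 from funext fun j => CharTwo.add_self_eq_zero _, add_zero]
    exact ⟨e1 ▸ key _ b1 b2, e2 ▸ key _ b3 b4⟩
  obtain ⟨s1, s2, s3⟩ := qsVec_sum
  have hz : z ∈ D := by
    obtain ⟨-, -, -, ⟨b1, b2⟩, ⟨b3, b4⟩, -, -⟩ := qsVec_ok 0
    obtain ⟨q, hq, hqC, hqu⟩ := lift _ b1 b2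
    obtain ⟨q', hq', hqC', hqu'⟩ := lift _ b3 b4
    have e := h.swap hq hq'
    rw [hqu, hqu', s3, zp_one] at e
    have : q' * q * q'⁻¹ * q⁻¹ = z := by
      rw [e]
      calc q * q' * z * q'⁻¹ * q⁻¹ = q * (q' * z * q'⁻¹) * q⁻¹ := by group
        _ = q * z * q⁻¹ := by rw [← h.extra.z_comm hq', mul_inv_cancel_right]
        _ = z := by rw [← h.extra.z_comm hq, mul_inv_cancel_right]
    exact this ▸ Subgroup.commutator_mem_commutator hqC' hqC
  have hc2 : P c2 ∧ P (omV c2) :=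
    ⟨s1 ▸ hadd _ _ (hadd _ _ (hmove 0).1 (hmove 1).1) (hmove 2).1,
      s2 ▸ hadd _ _ (hadd _ _ (hmove 0).2 (hmove 1).2) (hmove 2).2⟩
  intro a ha
  obtain ⟨c, hc⟩ := hE.line a ha
  have hP : P (π a) := by
    rw [hc]
    rcases scal_cases c c2 with e | e | e | e <;> rw [e]
    · exact ⟨1, one_mem _, one_mem _, h.π_one⟩
    · exact hc2.1
    · exact hc2.2
    · exact hadd _ _ hc2.1 hc2.2
  obtain ⟨d, hd, hdD, e⟩ := hP
  rcases (h.π_eq_iff hd (hE.le ha)).1 e with e' | e'
  · exact e' ▸ hdD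
  · exact e' ▸ mul_mem hdD hz

include hs in
/-- The centraliser of a line four-group with simple non-abelian quotient is quasisimple. -/
theorem line_quasisimple {E : Subgroup G} (hE : IsLine z (qImg Q) π c2 E)
    [(E.subgroupOf (Subgroup.centralizer (E : Set G))).Normal]
    (hsimp : IsSimpleGroup (↥(Subgroup.centralizer (E : Set G)) ⧸ E.subgroupOf (Subgroup.centralizer (E : Set G))))
    (hna : ∃ a b : ↥(Subgroup.centralizer (E : Set G)) ⧸ E.subgroupOf (Subgroup.centralizer (E : Set G)),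
      a * b ≠ b * a) :
    Cfsg.IsQuasisimple ↥(Subgroup.centralizer (E : Set G)) := by
  haveI := hsimp
  set C := Subgroup.centralizer (E : Set G) with hC
  set N := E.subgroupOf C with hN
  have hd := h.line_le_derived hpos hE
  have hcomm : ¬ ∀ a b : ↥C ⧸ N, a * b = b * a := fun e => by
    obtain ⟨a, b, hab⟩ := hna; exact hab (e a b)
  have hND : N ≤ commutator ↥C := by
    intro a ha
    have hm : (a : G) ∈ (commutator ↥C).map C.subtype := by
      rw [Subgroup.map_subtype_commutator]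
      exact hd ha
    obtain ⟨b, hb, e⟩ := hm
    exact (Subtype.ext e : b = a) ▸ hb
  have hperf : commutator ↥C = ⊤ := by
    have h1 : (commutator ↥C).map (QuotientGroup.mk' N) = ⊤ := by
      rw [commutator_def, Subgroup.map_commutator, Subgroup.map_top_of_surjective _ (QuotientGroup.mk'_surjective N),
        ← commutator_def]
      refine ((inferInstance : (commutator (↥C ⧸ N)).Normal).eq_bot_or_eq_top).resolve_left fun e => hcomm fun a b => ?_
      exact commutatorElement_eq_one_iff_mul_comm.1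
        (Subgroup.mem_bot.1 (e ▸ Subgroup.commutator_mem_commutator (Subgroup.mem_top a) (Subgroup.mem_top b)))
    refine eq_top_iff.2 fun x _ => ?_
    obtain ⟨d, hd', e⟩ : QuotientGroup.mk' N x ∈ (commutator ↥C).map (QuotientGroup.mk' N) := h1 ▸ Subgroup.mem_top _
    have hx : d⁻¹ * x ∈ N := (QuotientGroup.eq).1 e
    simpa using mul_mem hd' (hND hx)
  have hcen : Subgroup.center ↥C = N := by
    refine le_antisymm (fun x hx => ?_) fun x hx => Subgroup.mem_center_iff.2 fun g =>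
      Subtype.ext (Subgroup.mem_centralizer_iff.1 g.2 x hx).symm
    rw [← QuotientGroup.eq_one_iff]
    have hxc : (x : ↥C ⧸ N) ∈ Subgroup.center (↥C ⧸ N) := by
      rw [Subgroup.mem_center_iff]
      intro g
      obtain ⟨g, rfl⟩ := QuotientGroup.mk_surjective g
      rw [← QuotientGroup.mk_mul, ← QuotientGroup.mk_mul, Subgroup.mem_center_iff.1 hx g]
    rcases (inferInstance : (Subgroup.center (↥C ⧸ N)).Normal).eq_bot_or_eq_top with e | e
    · exact Subgroup.mem_bot.1 (e ▸ hxc)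
    · exact absurd (fun a b => Subgroup.mem_center_iff.1 (e ▸ Subgroup.mem_top b) a) hcomm
  refine ⟨⟨hperf⟩, ?_⟩
  exact (QuotientGroup.quotientMulEquivOfEq hcen).isSimpleGroup

end CfsgLib.Sporadic.LargeFischer.LF
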