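import Cfsg.Agent.Lib.Sporadic.LargeFischer.SixTwo.ModelSimple
import Cfsg.Agent.Lib.Sporadic.LargeFischer.SixTwo.CenterQuasisimple
import Cfsg.Agent.Lib.Components.Quasisimple

/-!
# Groups of large Fischer type: the centraliser of a line four-group
-/

set_option autoImplicit false
set_option linter.style.haveILetI false
set_option linter.unusedSectionVars false
set_option maxRecDepth 100000

namespace CfsgLib.Sporadic.LargeFischer.LF

open SixTwo CfsgLib.ThreeTransp.Extraspecial CfsgLib.Recognition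

variable {G : Type*} [Group G] [Finite G] {z : G} {Q : Subgroup (Subgroup.centralizer ({z} : Set G))} [Q.Normal]
  {π : G → V6} {ψ : ↥(Subgroup.centralizer ({z} : Set G)) →* (V6 ≃ₗ[ZMod 2] V6)} (h : LF z (qImg Q) π ψ)
  (hpos : h.model.orb (c6 0) = h.model.orb c2)
include h hpos

/-- The centraliser of a line four-group over `c2`. -/
theorem line_centralizer_c2 (hs : ¬ ∀ k ∈ ψ.range, Explicit.Lin k) {g : G}
    (hwz : g * z * g⁻¹ * z = z * (g * z * g⁻¹)) (hwQ : g * z * g⁻¹ ∉ qImg Q) {E : Subgroup G} {v' : V6}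
    (hE : IsLine z (qImg Q) π c2 E) (hE' : IsLine z (qImg Q) π v' (E.map (MulAut.conj g⁻¹).toMonoidHom)) :
    Cfsg.IsQuasisimple ↥(Subgroup.centralizer (E : Set G)) ∧
      ∃ (_ : (E.subgroupOf (Subgroup.centralizer (E : Set G))).Normal) (K : Type) (_ : Field K) (_ : Fintype K),
        Fintype.card K = 4 ∧
          Nonempty (↥(Subgroup.centralizer (E : Set G)) ⧸ E.subgroupOf (Subgroup.centralizer (E : Set G)) ≃*
            Cfsg.PSU 6 K 2) := by
  haveI := h.line_normal hpos hE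
  obtain ⟨he, hsimp, hna⟩ := h.line_quot_psu hpos hE hs hwz hwQ hE'
  exact ⟨h.line_quasisimple hpos hs hE hsimp hna, inferInstance, CfsgLib.Sporadic.FieldFour, inferInstance,
    inferInstance, CfsgLib.Sporadic.FieldFour.card_eq, he⟩

/-- The centraliser of a line four-group. -/
theorem line_centralizer (hs : ¬ ∀ k ∈ ψ.range, Explicit.Lin k) {g : G}
    (hwz : g * z * g⁻¹ * z = z * (g * z * g⁻¹)) (hwQ : g * z * g⁻¹ ∉ qImg Q) {E : Subgroup G} {v v' : V6}
    (hE : IsLine z (qImg Q) π v E) (hE' : IsLine z (qImg Q) π v' (E.map (MulAut.conj g⁻¹).toMonoidHom)) :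
    Cfsg.IsQuasisimple ↥(Subgroup.centralizer (E : Set G)) ∧
      ∃ (_ : (E.subgroupOf (Subgroup.centralizer (E : Set G))).Normal) (K : Type) (_ : Field K) (_ : Fintype K),
        Fintype.card K = 4 ∧
          Nonempty (↥(Subgroup.centralizer (E : Set G)) ⧸ E.subgroupOf (Subgroup.centralizer (E : Set G)) ≃*
            Cfsg.PSU 6 K 2) := by
  obtain ⟨d, hd⟩ := h.exists_line_c2 hpos hE
  set e := MulAut.conj (d : G) with he
  have hdz := Subgroup.mem_centralizer_singleton_iff.1 d.2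
  have hw2 : (d : G) * g * z * ((d : G) * g)⁻¹ = (d : G) * (g * z * g⁻¹) * (d : G)⁻¹ := by group
  have hcd : Commute (d : G) z := hdz
  have hwz2 : (d : G) * g * z * ((d : G) * g)⁻¹ * z = z * ((d : G) * g * z * ((d : G) * g)⁻¹) := by
    rw [hw2]; exact (((hcd.mul_left hwz).mul_left hcd.inv_left)).eq
  have hwQ2 : (d : G) * g * z * ((d : G) * g)⁻¹ ∉ qImg Q := fun hm => hwQ (by
    have := h.norm (d : G)⁻¹ hcd.inv_left.eq _ hm
    rwa [hw2, inv_inv, show (d : G)⁻¹ * ((d : G) * (g * z * g⁻¹) * (d : G)⁻¹) * d = g * z * g⁻¹ by group] at this)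
  have hE2 : (E.map e.toMonoidHom).map (MulAut.conj ((d : G) * g)⁻¹).toMonoidHom =
      E.map (MulAut.conj g⁻¹).toMonoidHom := by
    rw [Subgroup.map_map]
    congr 1
    ext x
    simp [he, mul_assoc]
  obtain ⟨hq, hn, K, iF, iT, hK, ⟨j⟩⟩ := h.line_centralizer_c2 hpos hs hwz2 hwQ2 hd (hE2.symm ▸ hE')
  haveI := hn
  haveI := h.line_normal hpos hE
  let f : ↥(Subgroup.centralizer (E : Set G)) ≃* ↥(Subgroup.centralizer ((E.map e.toMonoidHom : Subgroup G) : Set G)) :=
    (e.subgroupMap _).trans (MulEquiv.subgroupCongr (centralizer_map e E).symm)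
  refine ⟨CfsgLib.Components.IsQuasisimple.of_mulEquiv hq f.symm, inferInstance, K, iF, iT, hK,
    ⟨(QuotientGroup.congr _ _ f ?_).trans j⟩⟩
  ext x
  constructor
  · rintro ⟨y, hy, rfl⟩
    exact ⟨y, hy, rfl⟩
  · rintro ⟨a, ha, e'⟩
    refine ⟨f.symm x, ?_, f.apply_symm_apply x⟩
    show e.symm (x : G) ∈ E
    have e'' : e a = (x : G) := e'
    rw [← e'', e.symm_apply_apply]
    exact ha

end CfsgLib.Sporadic.LargeFischer.LF
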