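import Cfsg.Agent.Lib.Sporadic.LargeFischer.SixTwo.Line
import Cfsg.Agent.Lib.Sporadic.LargeFischer.OuterLift
import Cfsg.Agent.Lib.Sporadic.LargeFischer.EightCore

/-!
# Groups of large Fischer type: the centraliser of `z` in the centraliser of a line four-group
-/

set_option autoImplicit false
set_option linter.style.haveILetI false
set_option linter.unusedSectionVars false
set_option maxRecDepth 100000

namespace CfsgLib.Sporadic.LargeFischer.SixTwo

open Explicit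

theorem perp_shape_ok : (List.range 4096).all (fun n =>
    !(decide (bs (dec n) c2 = 0) && decide (bs (dec n) (omV c2) = 0)) || decide (dec n 0 = dec n 1)) = true := by
  decide +kernel

theorem perp_shape {u : V6} (h1 : bs u c2 = 0) (h2 : bs u (omV c2) = 0) : u 0 = u 1 := by
  have h := forall_of_codes (p := fun u => !(decide (bs u c2 = 0) && decide (bs u (omV c2) = 0)) ||
    decide (u 0 = u 1)) perp_shape_ok u
  simpa [h1, h2] using h

theorem pre_perp : ∀ j < 5, bs (pre j) c2 = 0 ∧ bs (pre j) (omV c2) = 0 ∧ herm (pre j) c2 = 0 := by decide +kernel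

theorem pre_shift : ∀ j < 5, ∀ a : D4, a ≠ 0 → j = 0 ∨ inOb (pre j + Explicit.sc a c2) = false := by decide +kernel

theorem scal_cases (c : D4) (v : V6) : Explicit.sc c v = 0 ∨ Explicit.sc c v = v ∨ Explicit.sc c v = omV v ∨
    Explicit.sc c v = v + omV v := by
  rcases D4_cases c with rfl | rfl | rfl | rfl
  · exact Or.inl (Explicit.sc_zero v)
  · exact Or.inr (Or.inl (Explicit.sc_one v))
  · exact Or.inr (Or.inr (Or.inl (Explicit.omV_eq v).symm))
  · exact Or.inr (Or.inr (Or.inr (by rw [Explicit.sc_ww, omV_sq])))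

/-- The stabiliser of `c2` in the linear part. -/
noncomputable def lineStab (K : Subgroup (V6 ≃ₗ[ZMod 2] V6)) : Subgroup (V6 ≃ₗ[ZMod 2] V6) := Explicit.Fx 1 ⊓ K

section

variable {K : Subgroup (V6 ≃ₗ[ZMod 2] V6)} (h : Explicit.Std K)
include h

theorem mem_lineStab {g : V6 ≃ₗ[ZMod 2] V6} :
    g ∈ lineStab K ↔ g ∈ K ∧ Explicit.Lin g ∧ g c2 = c2 := by
  constructor
  · rintro ⟨⟨hA, hf⟩, hK⟩
    exact ⟨hK, hA.1, pre_zero ▸ hf 0 Nat.one_pos⟩
  · rintro ⟨hK, hl, hf⟩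
    refine ⟨⟨h.mem_AL hK hl, fun j hj => ?_⟩, hK⟩
    rw [show j = 0 by omega, pre_zero, hf]

theorem tv_c2_fix : tv c2 ∈ Explicit.Fx 5 :=
  ⟨h.tv_mem c2 inOb_c2, fun j hj => by
    rw [tv_apply (herm_of_inOb inOb_c2), tvFun, (pre_perp j hj).2.2, Explicit.sc_zero, add_zero]⟩

theorem card_lineStab (hs : ¬ ∀ g ∈ K, Explicit.Lin g) : Nat.card (lineStab K) = 25920 := by
  haveI : Finite (V6 ≃ₗ[ZMod 2] V6) := Finite.of_injective _ DFunLike.coe_injective
  have hidx' : ((AL ⊓ K).subgroupOf AL).index = 2 := by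
    have := ((AL ⊓ K).subgroupOf AL).card_mul_index
    rw [Nat.card_congr (Subgroup.subgroupOfEquivOfLe (inf_le_left : AL ⊓ K ≤ AL)).toEquiv, h.card_linPart hs,
      card_AL h.tv_mem] at this
    omega
  have ht : tv c2 ∈ Explicit.Fx 1 := ⟨(tv_c2_fix h).1, fun j hj => (tv_c2_fix h).2 j (by omega)⟩
  have hidx : ((lineStab K).subgroupOf (Explicit.Fx 1)).index = 2 :=
    Subgroup.index_eq_two_iff.2 ⟨⟨_, ht⟩, fun b => by
      have hmem : ∀ x : ↥(Explicit.Fx 1), x ∈ (lineStab K).subgroupOf (Explicit.Fx 1) ↔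
          (⟨x.1, x.2.1⟩ : ↥AL) ∈ (AL ⊓ K).subgroupOf AL := fun x => by
        rw [Subgroup.mem_subgroupOf, Subgroup.mem_subgroupOf]
        exact ⟨fun e => ⟨x.2.1, e.2⟩, fun e => ⟨x.2, e.2⟩⟩
      rw [hmem, hmem]
      have hnot : (⟨tv c2, h.tv_mem c2 inOb_c2⟩ : ↥AL) ∉ (AL ⊓ K).subgroupOf AL := fun e =>
        h.tv_not_mem hs (Subgroup.mem_subgroupOf.1 e).2
      have hmul := Subgroup.mul_mem_iff_of_index_two hidx' (a := ⟨b.1, b.2.1⟩) (b := ⟨tv c2, h.tv_mem c2 inOb_c2⟩)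
      by_cases hb : (⟨b.1, b.2.1⟩ : ↥AL) ∈ (AL ⊓ K).subgroupOf AL
      · exact Or.inr ⟨hb, fun e => hnot ((hmul.1 e).1 hb)⟩
      · exact Or.inl ⟨hmul.2 (iff_of_false hb hnot), hb⟩⟩
  have := ((lineStab K).subgroupOf (Explicit.Fx 1)).card_mul_index
  rw [hidx, Nat.card_congr (Subgroup.subgroupOfEquivOfLe (show lineStab K ≤ Explicit.Fx 1 from inf_le_left)).toEquiv,
    card_Fx_one h.tv_mem] at this
  omega

/-- An element trivial on the hyperplane modulo the line is trivial. -/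
theorem lineStab_eq_one (hs : ¬ ∀ g ∈ K, Explicit.Lin g) {g : V6 ≃ₗ[ZMod 2] V6} (hg : g ∈ lineStab K)
    (hmod : ∀ u, bs u c2 = 0 → bs u (omV c2) = 0 → ∃ a, g u = u + Explicit.sc a c2) : g = 1 := by
  haveI : Finite (V6 ≃ₗ[ZMod 2] V6) := Finite.of_injective _ DFunLike.coe_injective
  have h5 : g ∈ Explicit.Fx 5 := by
    refine ⟨hg.1.1, fun j hj => ?_⟩
    obtain ⟨a, ha⟩ := hmod _ (pre_perp j hj).1 (pre_perp j hj).2.1
    by_cases ha0 : a = 0
    · rw [ha, ha0, Explicit.sc_zero, add_zero]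
    rcases pre_shift j hj a ha0 with e | e
    · subst e; exact hg.1.2 0 Nat.one_pos
    · exfalso
      rw [← ha, h.inOb_map hg.2, (preCodes_ok j (by omega)).2.1] at e
      exact Bool.noConfusion e
  have hc : Nat.card (Explicit.Fx 5) = 2 := by
    have h6 : Nat.card (Explicit.Fx 6) = 1 := by
      have : Explicit.Fx 6 = ⊥ := (Subgroup.eq_bot_iff_forall _).2 fun k hk =>
        eq_one_of_fix hk.1.1 fun j hj => hk.2 j hj
      rw [this, Subgroup.card_bot]
    rw [card_Fx h.tv_mem (i := 5) (by omega), h6]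
    rfl
  obtain ⟨y, -, huniq⟩ := (Nat.card_eq_two_iff' (1 : ↥(Explicit.Fx 5))).1 hc
  by_contra hg1
  have e1 := huniq ⟨g, h5⟩ fun e => hg1 (congrArg Subtype.val e)
  have e2 := huniq ⟨tv c2, tv_c2_fix h⟩ fun e => by
    have e' : tv c2 = 1 := congrArg Subtype.val e
    exact h.tv_not_mem hs (e' ▸ one_mem K)
  have e : g = tv c2 := congrArg Subtype.val (e1.trans e2.symm)
  exact h.tv_not_mem hs (e ▸ hg.2)

end

/-- The centraliser of `z` in the centraliser of `E`. -/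
def cH {G : Type*} [Group G] (z : G) (E : Subgroup G) : Subgroup G :=
  Subgroup.centralizer (E : Set G) ⊓ Subgroup.centralizer ({z} : Set G)

theorem centralizer_map {G : Type*} [Group G] (e : G ≃* G) (E : Subgroup G) :
    Subgroup.centralizer ((E.map e.toMonoidHom : Subgroup G) : Set G) =
      (Subgroup.centralizer (E : Set G)).map e.toMonoidHom := by
  ext x
  rw [Subgroup.mem_centralizer_iff, Subgroup.mem_map_equiv, Subgroup.mem_centralizer_iff]
  constructor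
  · intro hx a ha
    refine e.injective ?_
    rw [map_mul, map_mul, e.apply_symm_apply]
    exact hx _ ⟨a, ha, rfl⟩
  · rintro hx _ ⟨a, ha, rfl⟩
    show e a * x = x * e a
    conv_lhs => rw [← e.apply_symm_apply x, ← map_mul, hx a ha, map_mul, e.apply_symm_apply]

end CfsgLib.Sporadic.LargeFischer.SixTwo

namespace CfsgLib.Sporadic.LargeFischer.LF

open SixTwo

variable {G : Type*} [Group G] [Finite G] {z : G} {Q : Subgroup (Subgroup.centralizer ({z} : Set G))} [Q.Normal]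
  {π : G → V6} {ψ : ↥(Subgroup.centralizer ({z} : Set G)) →* (V6 ≃ₗ[ZMod 2] V6)} (h : LF z (qImg Q) π ψ)
  (hpos : h.model.orb (c6 0) = h.model.orb c2) (hs : ¬ ∀ k ∈ ψ.range, Explicit.Lin k)
include h hpos

theorem std : Explicit.Std ψ.range := ⟨h.model, hpos⟩

theorem inOb_omV {v : V6} (hv : Explicit.inOb v = true) : Explicit.inOb (omV v) = true := by
  obtain ⟨N, M, -, -, -, -, -, -, ⟨c, -, hc⟩, -⟩ := h.series
  rw [← hc v, (h.std hpos).inOb_map ⟨c, rfl⟩]
  exact hv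

theorem line_ne {v : V6} (hv : Explicit.inOb v = true) : v ≠ 0 :=
  h.model.ne_zero_of_orb c2_facts.2.2.1 (((h.std hpos).orb_iff v).2 hv)

theorem omV_ne {v : V6} (hv : v ≠ 0) : omV v ≠ 0 ∧ omV v ≠ v :=
  ⟨fun e => hv (omV_inj (e.trans omV_zero.symm)), fun e => hv (funext fun i => (omV_om (v i)).2.2 (congrFun e i))⟩

section

variable {E : Subgroup G} {v : V6} (hE : IsLine z (qImg Q) π v E)
include hE

theorem line_inj {a b : G} (ha : a ∈ E) (hb : b ∈ E) (e : π a = π b) : b = a :=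
  ((h.π_eq_iff (hE.le ha) (hE.le hb)).1 e).resolve_right fun e' => hE.notMem (by
    rw [show z = a⁻¹ * b by rw [e', inv_mul_cancel_left]]; exact mul_mem (inv_mem ha) hb)

theorem line_gens : ∃ a₀ ∈ E, ∃ a₁ ∈ E, π a₀ = v ∧ π a₁ = omV v ∧
    ∀ b ∈ E, b = 1 ∨ b = a₀ ∨ b = a₁ ∨ b = a₀ * a₁ := by
  classical
  let μ : E → D4 := fun a => (hE.line a a.2).choose
  have hμ : ∀ a : E, π a = Explicit.sc (μ a) v := fun a => (hE.line a a.2).choose_spec
  have hb : Function.Bijective μ := (Nat.bijective_iff_injective_and_card μ).2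
    ⟨fun a b e => Subtype.ext (h.line_inj hpos hE a.2 b.2 (by rw [hμ, hμ, e])).symm, by
      rw [hE.card, Nat.card_eq_fintype_card]; rfl⟩
  have hsurj : ∀ e : D4, ∃ a ∈ E, π a = Explicit.sc e v := fun e => by
    obtain ⟨a, rfl⟩ := hb.2 e
    exact ⟨a, a.2, hμ a⟩
  obtain ⟨a₀, ha₀, e₀⟩ := hsurj (1, 0)
  obtain ⟨a₁, ha₁, e₁⟩ := hsurj (0, 1)
  rw [Explicit.sc_one] at e₀
  rw [← Explicit.omV_eq] at e₁
  refine ⟨a₀, ha₀, a₁, ha₁, e₀, e₁, fun b hb' => ?_⟩
  obtain ⟨c, hc⟩ := hE.line b hb'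
  rcases scal_cases c v with e | e | e | e <;> rw [e] at hc
  · exact Or.inl (h.line_inj hpos hE (one_mem _) hb' (by rw [h.π_one, hc]))
  · exact Or.inr (Or.inl (h.line_inj hpos hE ha₀ hb' (by rw [e₀, hc])))
  · exact Or.inr (Or.inr (Or.inl (h.line_inj hpos hE ha₁ hb' (by rw [e₁, hc]))))
  · exact Or.inr (Or.inr (Or.inr (h.line_inj hpos hE (mul_mem ha₀ ha₁) hb' (by
      rw [h.π_mul _ (hE.le ha₀) _ (hE.le ha₁), e₀, e₁, hc]))))

theorem line_pos {a : G} (ha : a ∈ E) (h1 : a ≠ 1) : Explicit.inOb (π a) = true := by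
  obtain ⟨c, hc⟩ := hE.line a ha
  rw [hc]
  rcases scal_cases c v with e | e | e | e
  · exact absurd (h.line_inj hpos hE (one_mem _) ha (by rw [h.π_one, hc, e])) h1
  · rw [e]; exact hE.pos
  · rw [e]; exact h.inOb_omV hpos hE.pos
  · rw [e, ← omV_sq]; exact h.inOb_omV hpos (h.inOb_omV hpos hE.pos)

theorem line_le_cent : E ≤ Subgroup.centralizer ({z} : Set G) := fun a ha => h.mem_cent (hE.le ha)

theorem mem_cent_line {x : G} {a₀ a₁ : G} (hgen : ∀ b ∈ E, b = 1 ∨ b = a₀ ∨ b = a₁ ∨ b = a₀ * a₁)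
    (h0 : x * a₀ = a₀ * x) (h1 : x * a₁ = a₁ * x) : x ∈ Subgroup.centralizer (E : Set G) :=
  Subgroup.mem_centralizer_iff.2 fun b hb => by
    rcases hgen b hb with rfl | rfl | rfl | rfl
    · rw [one_mul, mul_one]
    · exact h0.symm
    · exact h1.symm
    · exact ((show Commute x a₀ from h0).mul_right h1).eq.symm

theorem q_mem_cent_line {q : G} (hq : q ∈ qImg Q) :
    q ∈ Subgroup.centralizer (E : Set G) ↔ bs (π q) v = 0 ∧ bs (π q) (omV v) = 0 := by
  obtain ⟨a₀, ha₀, a₁, ha₁, e₀, e₁, hgen⟩ := h.line_gens hpos hE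
  constructor
  · intro hc
    rw [← e₁, ← e₀]
    exact ⟨h.bs_of_commute hq (hE.le ha₀) (Subgroup.mem_centralizer_iff.1 hc a₀ ha₀).symm,
      h.bs_of_commute hq (hE.le ha₁) (Subgroup.mem_centralizer_iff.1 hc a₁ ha₁).symm⟩
  · rintro ⟨h0, h1⟩
    exact h.mem_cent_line hpos hE hgen (h.commute_of_bs hq (hE.le ha₀) (by rw [e₀]; exact h0))
      (h.commute_of_bs hq (hE.le ha₁) (by rw [e₁]; exact h1))

theorem line_commutative : E ≤ Subgroup.centralizer (E : Set G) := by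
  intro a ha
  rw [h.q_mem_cent_line hpos hE (hE.le ha)]
  obtain ⟨c, hc⟩ := hE.line a ha
  have hq : qs v = 0 := Explicit.qs_of_inOb hE.pos
  have h1 : bs v (omV v) = 0 := by rw [bs_om_self, hq]
  have h2 : bs (omV v) v = 0 := by rw [bs_comm, h1]
  rw [hc]
  rcases scal_cases c v with e | e | e | e <;> rw [e] <;>
    simp only [bs_add_left, bs_zero_left, bs_self, h1, h2, add_zero, and_self]

theorem card_qE : Nat.card ↥(qImg Q ⊓ Subgroup.centralizer (E : Set G)) = 2048 := by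
  obtain ⟨⟨q, hq, q1, q2⟩, r, hr, r1, r2⟩ := h.exists_dual (h.line_ne hpos hE.pos)
  let f : ↥(qImg Q) →* Multiplicative (ZMod 2 × ZMod 2) := MonoidHom.mk'
    (fun a => Multiplicative.ofAdd (bs (π a) v, bs (π a) (omV v))) fun a b => by
      simp only [Subgroup.coe_mul, h.π_mul _ a.2 _ b.2, bs_add_left, ← ofAdd_add, Prod.mk_add_mk]
  have hf : Function.Surjective f := fun y => by
    obtain ⟨⟨y1, y2⟩, rfl⟩ : ∃ p, Multiplicative.ofAdd p = y := ⟨y.toAdd, rfl⟩
    rcases z2 y1 with e1 | e1 <;> rcases z2 y2 with e2 | e2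
    · exact ⟨1, by rw [map_one]; exact congrArg Multiplicative.ofAdd (Prod.ext e1.symm e2.symm)⟩
    · exact ⟨⟨r, hr⟩, congrArg Multiplicative.ofAdd (Prod.ext (r1.trans e1.symm) (r2.trans e2.symm))⟩
    · exact ⟨⟨q, hq⟩, congrArg Multiplicative.ofAdd (Prod.ext (q1.trans e1.symm) (q2.trans e2.symm))⟩
    · refine ⟨⟨q, hq⟩ * ⟨r, hr⟩, ?_⟩
      rw [map_mul]
      exact congrArg Multiplicative.ofAdd (Prod.ext
        ((congrArg₂ (· + ·) q1 r1).trans (by rw [e1]; rfl)) ((congrArg₂ (· + ·) q2 r2).trans (by rw [e2]; rfl)))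
  have hk : f.ker = (qImg Q ⊓ Subgroup.centralizer (E : Set G)).subgroupOf (qImg Q) := by
    ext a
    rw [Subgroup.mem_subgroupOf, MonoidHom.mem_ker]
    show Multiplicative.ofAdd _ = 1 ↔ _
    rw [ofAdd_eq_one, Prod.mk_eq_zero, Subgroup.mem_inf, h.q_mem_cent_line hpos hE a.2]
    exact ⟨fun e => ⟨a.2, e⟩, fun e => e.2⟩
  have hm := f.ker.card_mul_index
  rw [Subgroup.index_ker, MonoidHom.range_eq_top.2 hf, Subgroup.card_top, hk,
    Nat.card_congr (Subgroup.subgroupOfEquivOfLe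
      (show qImg Q ⊓ Subgroup.centralizer (E : Set G) ≤ qImg Q from inf_le_left)).toEquiv, h.card_Q,
    Nat.card_congr Multiplicative.toAdd, Nat.card_prod, Nat.card_zmod] at hm
  omega

end

omit h hpos in
/-- The action of the centraliser. -/
def lineAct (ψ : ↥(Subgroup.centralizer ({z} : Set G)) →* (V6 ≃ₗ[ZMod 2] V6)) (E : Subgroup G) :
    ↥(SixTwo.cH z E) →* (V6 ≃ₗ[ZMod 2] V6) :=
  ψ.comp (Subgroup.inclusion (inf_le_right : SixTwo.cH z E ≤ Subgroup.centralizer ({z} : Set G)))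

section

variable {E : Subgroup G} (hE : IsLine z (qImg Q) π c2 E)
include hE

theorem lineAct_range : (lineAct ψ E).range = lineStab ψ.range := by
  obtain ⟨a₀, ha₀, a₁, ha₁, e₀, e₁, hgen⟩ := h.line_gens hpos hE
  ext k
  rw [mem_lineStab (h.std hpos)]
  constructor
  · rintro ⟨⟨c, hcE, hcz⟩, rfl⟩
    set cc : ↥(Subgroup.centralizer ({z} : Set G)) := ⟨c, hcz⟩ with hcc
    show ψ cc ∈ ψ.range ∧ Explicit.Lin (ψ cc) ∧ ψ cc c2 = c2
    have hfix : ∀ a ∈ E, ψ cc (π a) = π a := fun a ha => by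
      rw [← h.act cc a (hE.le ha)]
      show π (c * a * c⁻¹) = π a
      rw [← Subgroup.mem_centralizer_iff.1 hcE a ha, mul_inv_cancel_right]
    have f0 : ψ cc c2 = c2 := e₀ ▸ hfix a₀ ha₀
    have f1 : ψ cc (omV c2) = omV c2 := e₁ ▸ hfix a₁ ha₁
    refine ⟨⟨cc, rfl⟩, (h.model.scal _ ⟨cc, rfl⟩).resolve_right fun e => ?_, f0⟩
    rw [e, f0, omV_sq] at f1
    exact c2_facts.2.2.1 (add_eq_right.1 f1)
  · rintro ⟨⟨c, rfl⟩, hl, hf⟩
    obtain ⟨c', -, hψc', hc'⟩ := h.fix_lift (hE.le ha₀)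
      (by rw [e₀]; exact c2_facts.2.2.1) c (by rw [e₀]; exact hf)
    obtain ⟨hm, he⟩ := h.π_conj c' (hE.le ha₁)
    rw [hψc', e₁, hl, hf] at he
    rcases (h.π_eq_iff (hE.le ha₁) hm).1 (e₁.trans he.symm) with e | e
    · exact ⟨⟨c', h.mem_cent_line hpos hE hgen hc' (mul_inv_eq_iff_eq_mul.1 e), c'.2⟩, hψc'⟩
    · obtain ⟨-, q, hq, q0, q1⟩ := h.exists_dual (v := c2) c2_facts.2.2.1
      have hqa₀ : q * a₀ = a₀ * q := h.commute_of_bs hq (hE.le ha₀) (by rw [e₀]; exact q0)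
      have hqa₁ : q * a₁ = a₁ * q * z := by
        have e2 := h.swap (hE.le ha₁) hq
        rwa [show bs (π a₁) (π q) = 1 by rw [e₁, bs_comm]; exact q1, zp_one] at e2
      set c'' : ↥(Subgroup.centralizer ({z} : Set G)) := ⟨q, h.mem_cent hq⟩ * c' with hc''
      refine ⟨⟨c'', h.mem_cent_line hpos hE hgen ?_ ?_, c''.2⟩, ?_⟩
      · show q * c' * a₀ = a₀ * (q * c')
        rw [mul_assoc, hc', ← mul_assoc, hqa₀, mul_assoc]
      · show q * c' * a₁ = a₁ * (q * c')
        calc q * c' * a₁ = q * ((c' : G) * a₁ * (c' : G)⁻¹) * c' := by group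
          _ = (q * a₁) * z * c' := by rw [e]; group
          _ = a₁ * q * (z * z) * c' := by rw [hqa₁]; group
          _ = a₁ * (q * c') := by rw [h.extra.z_sq]; group
      · show ψ c'' = ψ c
        rw [hc'', map_mul, (h.ker ⟨q, h.mem_cent hq⟩).2 hq, one_mul, hψc']

theorem card_cH (hs : ¬ ∀ k ∈ ψ.range, Explicit.Lin k) : Nat.card ↥(SixTwo.cH z E) = 2048 * 25920 := by
  have hm := (lineAct ψ E).ker.card_mul_index
  rw [Subgroup.index_ker, h.lineAct_range hpos hE, card_lineStab (h.std hpos) hs] at hm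
  have hk : (lineAct ψ E).ker =
      (qImg Q ⊓ Subgroup.centralizer (E : Set G)).subgroupOf (SixTwo.cH z E) := by
    ext c
    rw [MonoidHom.mem_ker, Subgroup.mem_subgroupOf]
    exact (h.ker _).trans ⟨fun e => ⟨e, c.2.1⟩, fun e => e.1⟩
  rw [hk, Nat.card_congr (Subgroup.subgroupOfEquivOfLe
    (show qImg Q ⊓ Subgroup.centralizer (E : Set G) ≤ SixTwo.cH z E from
      le_inf inf_le_right fun x hx => h.mem_cent hx.1)).toEquiv, h.card_qE hpos hE] at hm
  exact hm.symm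

end

/-- Conjugation inside `C(z)` moves lines to lines. -/
theorem line_map {E : Subgroup G} {v : V6} (hE : IsLine z (qImg Q) π v E)
    (d : ↥(Subgroup.centralizer ({z} : Set G))) :
    IsLine z (qImg Q) π (ψ d v) (E.map (MulAut.conj (d : G)).toMonoidHom) where
  le := by
    rintro _ ⟨a, ha, rfl⟩
    exact h.norm d (Subgroup.mem_centralizer_singleton_iff.1 d.2) a (hE.le ha)
  card := by rw [Subgroup.card_map_of_injective (MulAut.conj (d : G)).injective, hE.card]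
  notMem := by
    rintro ⟨a, ha, e⟩
    refine hE.notMem ((?_ : a = z) ▸ ha)
    have e' : (d : G) * a * (d : G)⁻¹ = z := e
    rw [mul_inv_eq_iff_eq_mul, ← Subgroup.mem_centralizer_singleton_iff.1 d.2] at e'
    exact mul_left_cancel e'
  pos := by rw [(h.std hpos).inOb_map ⟨d, rfl⟩]; exact hE.pos
  line := by
    rintro _ ⟨a, ha, rfl⟩
    obtain ⟨c, hc⟩ := hE.line a ha
    show ∃ c', π ((d : G) * a * (d : G)⁻¹) = _
    rw [h.act d a (hE.le ha), hc]
    rcases h.model.scal _ ⟨d, rfl⟩ with e | e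
    · exact ⟨c, Explicit.Lin.sc e c v⟩
    · exact ⟨Explicit.fro c, Explicit.Anti.sc e c v⟩

/-- Every line is conjugate in `C(z)` to one over `c2`. -/
theorem exists_line_c2 {E : Subgroup G} {v : V6} (hE : IsLine z (qImg Q) π v E) :
    ∃ d : ↥(Subgroup.centralizer ({z} : Set G)),
      IsLine z (qImg Q) π c2 (E.map (MulAut.conj (d : G)).toMonoidHom) := by
  obtain ⟨k, hk, hkv⟩ := (h.std hpos).exists_mem hE.pos
  obtain ⟨d, hd⟩ := inv_mem hk
  refine ⟨d, ?_⟩
  have := h.line_map hpos hE d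
  rwa [hd, show k⁻¹ v = c2 by rw [← hkv]; exact k.symm_apply_apply c2] at this

/-- The order of the centraliser in `C(z)` of any line. -/
theorem card_cH_any (hs : ¬ ∀ k ∈ ψ.range, Explicit.Lin k) {E : Subgroup G} {v : V6}
    (hE : IsLine z (qImg Q) π v E) : Nat.card ↥(SixTwo.cH z E) = 2048 * 25920 := by
  obtain ⟨d, hd⟩ := h.exists_line_c2 hpos hE
  rw [← h.card_cH hpos hd hs, ← Subgroup.card_map_of_injective (K := SixTwo.cH z E) (f := (MulAut.conj (d : G)).toMonoidHom)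
    (MulAut.conj (d : G)).injective]
  have hz : (Subgroup.centralizer ({z} : Set G)).map (MulAut.conj (d : G)).toMonoidHom =
      Subgroup.centralizer ({z} : Set G) := by
    ext x
    constructor
    · rintro ⟨y, hy, rfl⟩; exact mul_mem (mul_mem d.2 hy) (inv_mem d.2)
    · intro hx
      exact ⟨(d : G)⁻¹ * x * d, mul_mem (mul_mem (inv_mem d.2) hx) d.2, by
        show (d : G) * ((d : G)⁻¹ * x * d) * (d : G)⁻¹ = x
        group⟩
  show Nat.card ↥((Subgroup.centralizer (E : Set G) ⊓ Subgroup.centralizer ({z} : Set G)).map _) = _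
  rw [Subgroup.map_inf _ _ _ (MulAut.conj (d : G)).injective, hz, SixTwo.cH, centralizer_map]

end CfsgLib.Sporadic.LargeFischer.LF
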