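import Cfsg.Agent.Lib.Sporadic.LargeFischer.Explicit.MaxPair

/-!
# Linear involutions and linear elements of order four of the stabiliser of the set of 378 vectors
-/

set_option autoImplicit false
set_option linter.unusedSectionVars false
set_option maxRecDepth 100000

namespace CfsgLib.Sporadic.LargeFischer.SixTwo

open Explicit

/-- Multiples by units, on codes. -/
def twins (a b : ℕ) : Bool :=
  (dec b == dec a) || (dec b == omV (dec a)) || (dec b == omV (omV (dec a)))

theorem inv_images : (sylInvs.all fun L =>
    let S := imgSpan L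
    decide (S.length ≤ 16) && S.contains 0 && S.all (fun a => S.all fun b => S.contains (a ^^^ b)) &&
    (List.range 12).all (fun b => S.contains (L.getD b 0 ^^^ 2 ^ b)) && S.all (fun a => qs (dec a) == 0)) = true := by
  decide +kernel

theorem inv_points : (sylInvs.all fun L =>
    let O := (imgSpan L).filter fun a => inOb (dec a)
    O.all fun a => O.all fun b => !inOb (dec (a ^^^ b)) || twins a b) = true := by
  decide +kernel

theorem four_moves : (sylElts.all fun L =>
    let L2 := colsComp L L
    (L2 == colsOne) || !(colsComp L2 L2 == colsOne) ||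
      (List.range 400).any (fun n => apN L2 n == n && inOb (dec (apN L n ^^^ n)))) = true := by
  decide +kernel

/-- The vectors moved into by an involution of the table. -/
theorem syl_image {g : V6 ≃ₗ[ZMod 2] V6} (hg : g ∈ sylGroup) (h1 : g ≠ 1) (h2 : g * g = 1) (v : V6) :
    code (g v + v) ∈ imgSpan (cols g) := by
  have hb := List.all_eq_true.1 inv_images _ (inv_mem_list hg h1 h2)
  simp only [Bool.and_eq_true, List.all_eq_true, List.contains_eq_mem, decide_eq_true_eq, List.mem_range] at hb
  obtain ⟨⟨⟨⟨-, h0⟩, hx⟩, hgen⟩, -⟩ := hb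
  have key : ∀ l : List ℕ, (∀ b ∈ l, b < 12) → ∀ a, code (g (dec a) + dec a) ∈ imgSpan (cols g) →
      code (g (dec (l.foldl (fun acc b => if (code v).testBit b then acc ^^^ 2 ^ b else acc) a)) +
        dec (l.foldl (fun acc b => if (code v).testBit b then acc ^^^ 2 ^ b else acc) a)) ∈ imgSpan (cols g) := by
    intro l
    induction l with
    | nil => exact fun _ a ha => ha
    | cons b l ih =>
      intro hl a ha
      rw [List.foldl_cons]
      refine ih (fun c hc => hl c (List.mem_cons_of_mem _ hc)) _ ?_
      split_ifs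
      · have hb12 : b < 12 := hl b List.mem_cons_self
        have := hx _ ha _ (hgen b hb12)
        have hc : code (g (dec (a ^^^ 2 ^ b)) + dec (a ^^^ 2 ^ b)) =
            code (g (dec a) + dec a) ^^^ ((cols g).getD b 0 ^^^ 2 ^ b) := by
          have hlt : (cols g).getD b 0 ^^^ 2 ^ b < 4096 :=
            Nat.xor_lt_two_pow (n := 12) (by rw [cols_getD g hb12]; exact code_lt _)
              (Nat.pow_lt_pow_right (show 1 < 2 by norm_num) hb12)
          rw [← code_dec (Nat.xor_lt_two_pow (n := 12) (code_lt _) hlt : _ < 4096)]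
          congr 1
          rw [dec_xor, dec_xor, dec_xor, dec_code, cols_getD g hb12, dec_code, map_add]
          abel
        rw [hc]; exact this
      · exact ha
  have h := key (List.range 12) (fun b hb => List.mem_range.1 hb) 0 (by
    rw [dec_zero, map_zero, add_zero, ← dec_zero, code_dec (by norm_num)]; exact h0)
  rwa [← split_bits (code v) 12, Nat.mod_eq_of_lt (show code v < 2 ^ 12 from code_lt v), dec_code] at h

/-- The displacement of an involution, as a homomorphism. -/
def disp (g : V6 ≃ₗ[ZMod 2] V6) : V6 →+ V6 := AddMonoidHom.mk' (fun v => g v + v) fun u v => by rw [map_add]; abel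

theorem disp_apply (g : V6 ≃ₗ[ZMod 2] V6) (v : V6) : disp g v = g v + v := rfl

/-- The image of the displacement of an involution of the table. -/
theorem syl_disp {g : V6 ≃ₗ[ZMod 2] V6} (hg : g ∈ sylGroup) (h1 : g ≠ 1) (h2 : g * g = 1) :
    Nat.card (disp g).range ≤ 16 ∧ (∀ w ∈ (disp g).range, qs w = 0) ∧
    ∀ a ∈ (disp g).range, ∀ b ∈ (disp g).range, inOb a = true → inOb b = true → inOb (a + b) = true →
      b = a ∨ b = omV a ∨ b = omV (omV a) := by
  classical
  have hb := List.all_eq_true.1 inv_images _ (inv_mem_list hg h1 h2)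
  simp only [Bool.and_eq_true, List.all_eq_true, decide_eq_true_eq, beq_iff_eq] at hb
  have hm : ∀ w ∈ (disp g).range, code w ∈ imgSpan (cols g) := by
    rintro _ ⟨v, rfl⟩; exact syl_image hg h1 h2 v
  refine ⟨?_, fun w hw => by simpa only [dec_code] using hb.2 _ (hm w hw), fun a ha b hb' oa ob oab => ?_⟩
  · rw [← SetLike.coe_sort_coe, Nat.card_coe_set_eq, ← Set.ncard_image_of_injective _ code_injective]
    refine (Set.ncard_le_ncard (t := ↑(imgSpan (cols g)).toFinset) ?_ (Finset.finite_toSet _)).trans ?_
    · rintro _ ⟨w, hw, rfl⟩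
      exact Finset.mem_coe.2 (List.mem_toFinset.2 (hm w hw))
    · rw [Set.ncard_coe_finset]
      exact (List.toFinset_card_le _).trans hb.1.1.1.1
  · have hp := List.all_eq_true.1 inv_points _ (inv_mem_list hg h1 h2)
    simp only [List.all_eq_true, List.mem_filter, Bool.or_eq_true, Bool.not_eq_true', twins, beq_iff_eq] at hp
    have := hp _ ⟨hm a ha, by rw [dec_code]; exact oa⟩ _ ⟨hm b hb', by rw [dec_code]; exact ob⟩
    rw [dec_xor, dec_code, dec_code, oab] at this
    rcases this with e | (e | e) | e
    · exact absurd e (by decide)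
    · exact Or.inl e
    · exact Or.inr (Or.inl e)
    · exact Or.inr (Or.inr e)

/-- The fixed vectors. -/
def fixSub (g : V6 ≃ₗ[ZMod 2] V6) : AddSubgroup V6 := (disp g).ker

theorem mem_fixSub {g : V6 ≃ₗ[ZMod 2] V6} {v : V6} : v ∈ fixSub g ↔ g v = v := by
  show g v + v = 0 ↔ _
  exact ⟨fun e => funext fun i => CharTwo.add_eq_zero.1 (congrFun e i), fun e => by
    rw [e]; exact funext fun i => CharTwo.add_self_eq_zero _⟩

end CfsgLib.Sporadic.LargeFischer.SixTwo
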