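import Cfsg.Agent.Lib.Sporadic.LargeFischer.Explicit.Semilinear

/-!
# Groups of large Fischer type: four-groups of `Q` over a point of the set of 378 vectors
-/

set_option autoImplicit false
set_option linter.unusedSectionVars false

namespace CfsgLib.Sporadic.LargeFischer.SixTwo

open Explicit

/-- A four-group of `Q` without `z`, lying over the multiples of a vector of the set of 378 vectors. -/
structure IsLine {G : Type*} [Group G] (z : G) (Q : Subgroup G) (π : G → V6) (v : V6) (E : Subgroup G) : Prop where
  le : E ≤ Q
  card : Nat.card E = 4
  notMem : z ∉ E
  pos : inOb v = true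
  line : ∀ a ∈ E, ∃ c : D4, π a = sc c v

end CfsgLib.Sporadic.LargeFischer.SixTwo
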