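import Cfsg.Agent.Lib.Sporadic.LargeFischer.SixTwo.Square
import Cfsg.Agent.Lib.Sporadic.LargeFischer.SixTwo.CenterExport

/-!
# Groups of large Fischer type: a four-group with centraliser a cover of `PSU₆(2)`
-/

set_option autoImplicit false
set_option linter.style.haveILetI false
set_option linter.unusedSectionVars false

namespace CfsgLib.Sporadic.LargeFischer

open Explicit SixTwo

theorem sc_eq_sc (v : V6) (e : D4) : Explicit.sc e v = LargeFischer.sc v e := by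
  funext i
  have key : ∀ e a : D4, fmul e a = e.1 • a + e.2 • om a := by decide
  exact key e (v i)

namespace LF

variable {G : Type*} [Group G] [Finite G] {z : G} {Q : Subgroup (Subgroup.centralizer ({z} : Set G))} [Q.Normal]
  {π : G → V6} {ψ : ↥(Subgroup.centralizer ({z} : Set G)) →* (V6 ≃ₗ[ZMod 2] V6)} (h : LF z (qImg Q) π ψ)
include h

theorem line_elementary (hpos : h.model.orb (c6 0) = h.model.orb c2) {E : Subgroup G} {v : V6}
    (hE : IsLine z (qImg Q) π v E) : Cfsg.IsElementaryAbelian 2 E := by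
  refine ⟨⟨⟨fun a b => Subtype.ext (Subgroup.mem_centralizer_iff.1 (h.line_commutative hpos hE b.2) a a.2)⟩⟩,
    fun a ha => ?_⟩
  rw [pow_two]
  refine (h.q_iff a (hE.le ha)).1 ?_
  by_cases h1 : a = 1
  · rw [h1, h.π_one]; decide
  · exact qs_of_inOb (h.line_pos hpos hE ha h1)

/-- Some four-group of `Q` over a point of the 378 vectors has centraliser a cover of `PSU₆(2)`. -/
theorem exists_u62_four_group (hpos : h.model.orb (c6 0) = h.model.orb c2) (hs : ¬ ∀ k ∈ ψ.range, Lin k) {g₀ : G}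
    (hu₀ : g₀ * z * g₀⁻¹ ∈ qImg Q) (hne₀ : g₀ * z * g₀⁻¹ ≠ z) :
    ∃ E : Subgroup G, E ≤ qImg Q ∧ Cfsg.IsElementaryAbelian 2 E ∧ Nat.card E = 4 ∧ z ∉ E ∧
      (∃ w, w ∈ h.model.orb c2 ∧ ∀ a ∈ E, ∃ e : D4, π a = LargeFischer.sc w e) ∧
      (∃ t ∈ E, orderOf t = 2 ∧ ¬ IsConj z t) ∧
      Cfsg.IsQuasisimple ↥(Subgroup.centralizer (E : Set G)) ∧
      ∃ (_ : (E.subgroupOf (Subgroup.centralizer (E : Set G))).Normal) (K : Type) (_ : Field K) (_ : Fintype K),
        Fintype.card K = 4 ∧ Nonempty (↥(Subgroup.centralizer (E : Set G)) ⧸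
          E.subgroupOf (Subgroup.centralizer (E : Set G)) ≃* Cfsg.PSU 6 K 2) := by
  obtain ⟨g, E, v, v', hwz, hwQ, hE, hE'⟩ := h.exists_line_pair hpos hs hu₀ hne₀
  obtain ⟨hqs, hiso⟩ := h.line_centralizer hpos hs hwz hwQ hE hE'
  have hel := h.line_elementary hpos hE
  refine ⟨E, hE.le, hel, hE.card, hE.notMem, ⟨v, ((h.std hpos).orb_iff v).2 hE.pos, fun a ha => ?_⟩, ?_, hqs, hiso⟩
  · obtain ⟨c, hc⟩ := hE.line a ha
    exact ⟨c, hc.trans (sc_eq_sc v c)⟩
  · obtain ⟨a₀, ha₀, -, -, e₀, -, -⟩ := h.line_gens hpos hE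
    have ho : inOb (π a₀) = true := by rw [e₀]; exact hE.pos
    refine ⟨a₀, ha₀, orderOf_eq_prime (hp := ⟨Nat.prime_two⟩) (hel.2 a₀ ha₀) ?_,
      h.not_conj_of_inOb hpos (hE.le ha₀) ho⟩
    intro e1
    rw [e1, h.π_one] at ho
    exact absurd ho (by decide)

end LF

end CfsgLib.Sporadic.LargeFischer
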