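import Cfsg.Agent.Lib.Sporadic.LargeFischer.SixTwo.CenterLine
import Cfsg.Agent.Lib.Recognition.USixTwo.Setup
import Cfsg.Agent.Lib.Solvable.RankTwoUnipotent.Setting

/-!
# Groups of large Fischer type: the quotient of the centraliser of a line four-group as a group with an
involution with centraliser `2¹⁺⁸·U₄(2)`
-/

set_option autoImplicit false
set_option linter.style.haveILetI false
set_option linter.unusedSectionVars false
set_option maxRecDepth 100000

namespace CfsgLib.Sporadic.LargeFischer.SixTwo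

open Explicit CfsgLib.Recognition

/-- The last four coordinates. -/
def projP : V6 →ₗ[ZMod 2] USixTwo.V4 where
  toFun u := fun i => u i.succ.succ
  map_add' _ _ := rfl
  map_smul' _ _ := rfl

/-- The vectors with two leading zeros. -/
def embI : USixTwo.V4 →ₗ[ZMod 2] V6 where
  toFun v := ![0, 0, v 0, v 1, v 2, v 3]
  map_add' u v := by funext i; fin_cases i <;> simp
  map_smul' c v := by funext i; fin_cases i <;> simp

theorem projP_embI (v : USixTwo.V4) : projP (embI v) = v := by funext i; fin_cases i <;> rfl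

theorem embI_omV (v : USixTwo.V4) : embI (USixTwo.omV v) = omV (embI v) := by
  funext i; fin_cases i <;> first | rfl | decide

theorem projP_omV (u : V6) : projP (omV u) = USixTwo.omV (projP u) := rfl

theorem fin4_cases (v : USixTwo.V4) : v = ![v 0, v 1, v 2, v 3] := by funext i; fin_cases i <;> rfl

theorem embI_perp_ok : ∀ a b c d : D4, bs ![0, 0, a, b, c, d] c2 = 0 ∧ bs ![0, 0, a, b, c, d] (omV c2) = 0 := by
  decide +kernel

theorem embI_perp (v : USixTwo.V4) : bs (embI v) c2 = 0 ∧ bs (embI v) (omV c2) = 0 := embI_perp_ok _ _ _ _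

theorem q4_projP {u : V6} (hu : u 0 = u 1) : USixTwo.q4 (projP u) = qs u := by
  show nzd (u 2) + nzd (u 3) + nzd (u 4) + nzd (u 5) = ∑ i, nzd (u i)
  rw [Fin.sum_univ_six, hu, CharTwo.add_self_eq_zero, zero_add]

theorem bs4_projP {u w : V6} (hu : u 0 = u 1) (hw : w 0 = w 1) :
    USixTwo.bs4 (projP u) (projP w) = bs u w := by
  show USixTwo.q4 (projP u + projP w) + USixTwo.q4 (projP u) + USixTwo.q4 (projP w) = qs (u + w) + qs u + qs w
  rw [← map_add, q4_projP hu, q4_projP hw, q4_projP (show (u + w) 0 = (u + w) 1 by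
    rw [Pi.add_apply, Pi.add_apply, hu, hw])]

theorem projP_sc_c2 (a : D4) : projP (Explicit.sc a c2) = 0 := by
  revert a; decide +kernel

theorem perp_decomp {u : V6} (h : u 0 = u 1) : u = embI (projP u) + Explicit.sc (u 0) c2 := by
  have key : ∀ a : D4, Explicit.sc a c2 = ![a, a, 0, 0, 0, 0] := by decide +kernel
  rw [key]
  funext i; fin_cases i <;> simp [embI, projP, h]

theorem eq_sc_of_projP {u : V6} (h : u 0 = u 1) (h0 : projP u = 0) : u = Explicit.sc (u 0) c2 := by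
  conv_lhs => rw [perp_decomp h, h0, map_zero, zero_add]

theorem bs4_nondeg_ok : ∀ a b c d : D4, ![a, b, c, d] = (0 : USixTwo.V4) ∨ ∃ i : Fin 4,
    USixTwo.bs4 ![a, b, c, d] (Pi.single i (1, 0)) = 1 ∨ USixTwo.bs4 ![a, b, c, d] (Pi.single i (0, 1)) = 1 := by
  decide +kernel

theorem bs4_nondeg {v : USixTwo.V4} (h : ∀ w, USixTwo.bs4 v w = 0) : v = 0 := by
  rcases bs4_nondeg_ok (v 0) (v 1) (v 2) (v 3) with e | ⟨i, e | e⟩ <;> rw [← fin4_cases v] at e
  · exact e
  all_goals rw [h] at e; exact absurd e (by decide)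

theorem bs4_unit : USixTwo.bs4 ![(1, 0), 0, 0, 0] ![(0, 1), 0, 0, 0] = 1 := by decide

section

variable {K : Subgroup (V6 ≃ₗ[ZMod 2] V6)} (h : Explicit.Std K)
include h

theorem lineStab_perp {k : V6 ≃ₗ[ZMod 2] V6} (hk : k ∈ lineStab K) {u : V6} (h1 : bs u c2 = 0)
    (h2 : bs u (omV c2) = 0) : bs (k u) c2 = 0 ∧ bs (k u) (omV c2) = 0 := by
  obtain ⟨hK, hl, hf⟩ := (mem_lineStab h).1 hk
  have e1 := bs_preserved (h.model.quad k hK) u c2
  have e2 := bs_preserved (h.model.quad k hK) u (omV c2)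
  rw [hf] at e1
  rw [hl, hf] at e2
  exact ⟨e1.trans h1, e2.trans h2⟩

theorem projP_apply {k : V6 ≃ₗ[ZMod 2] V6} (hk : k ∈ lineStab K) {u : V6} (hu : u 0 = u 1) :
    projP (k u) = projP (k (embI (projP u))) := by
  obtain ⟨-, hl, hf⟩ := (mem_lineStab h).1 hk
  conv_lhs => rw [perp_decomp hu, map_add, map_add, Explicit.Lin.sc hl, hf, projP_sc_c2, add_zero]

theorem projP_mul {k k' : V6 ≃ₗ[ZMod 2] V6} (hk : k ∈ lineStab K) (hk' : k' ∈ lineStab K) (v : USixTwo.V4) :
    projP (k (k' (embI v))) = projP (k (embI (projP (k' (embI v))))) :=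
  have hp := lineStab_perp h hk' (embI_perp v).1 (embI_perp v).2
  projP_apply h hk (perp_shape hp.1 hp.2)

/-- The action of the stabiliser on the four-dimensional section. -/
noncomputable def lineSec : ↥(lineStab K) →* (USixTwo.V4 ≃ₗ[ZMod 2] USixTwo.V4) where
  toFun k :=
    { toLinearMap := projP.comp ((k.1 : V6 ≃ₗ[ZMod 2] V6).toLinearMap.comp embI)
      invFun := fun v => projP ((k⁻¹ : ↥(lineStab K)).1 (embI v))
      left_inv := fun v => by
        show projP ((k⁻¹ : ↥(lineStab K)).1 (embI (projP (k.1 (embI v))))) = v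
        rw [← projP_mul h (k⁻¹).2 k.2, ← LinearEquiv.mul_apply, ← Subgroup.coe_mul, inv_mul_cancel]
        exact projP_embI v
      right_inv := fun v => by
        show projP (k.1 (embI (projP ((k⁻¹ : ↥(lineStab K)).1 (embI v))))) = v
        rw [← projP_mul h k.2 (k⁻¹).2, ← LinearEquiv.mul_apply, ← Subgroup.coe_mul, mul_inv_cancel]
        exact projP_embI v }
  map_one' := LinearEquiv.ext fun v => projP_embI v
  map_mul' k k' := LinearEquiv.ext fun v => projP_mul h k.2 k'.2 v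

theorem lineSec_apply (k : ↥(lineStab K)) (v : USixTwo.V4) : lineSec h k v = projP (k.1 (embI v)) := rfl

theorem lineSec_iso (k : ↥(lineStab K)) : USixTwo.IsIso (lineSec h k) where
  lin v := by
    rw [lineSec_apply, lineSec_apply, embI_omV, ((mem_lineStab h).1 k.2).2.1]
    rfl
  quad v := by
    obtain ⟨hK, -, -⟩ := (mem_lineStab h).1 k.2
    have hp := lineStab_perp h k.2 (embI_perp v).1 (embI_perp v).2
    rw [lineSec_apply, q4_projP (perp_shape hp.1 hp.2), h.model.quad _ hK,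
      ← q4_projP (show embI v 0 = embI v 1 from rfl), projP_embI]

theorem lineSec_injective (hs : ¬ ∀ g ∈ K, Explicit.Lin g) : Function.Injective (lineSec h) := by
  rw [injective_iff_map_eq_one]
  intro k hk
  refine Subtype.ext (lineStab_eq_one h hs k.2 fun u h1 h2 => ?_)
  have hu := perp_shape h1 h2
  have hp := lineStab_perp h k.2 h1 h2
  have hku := perp_shape hp.1 hp.2
  have e : projP (k.1 u) = projP u := by
    rw [projP_apply h k.2 hu, ← lineSec_apply h, hk]; rfl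
  refine ⟨k.1 u 0 + u 0, ?_⟩
  conv_lhs => rw [perp_decomp hku, e]
  conv_rhs => rw [add_comm (k.1 u 0), Explicit.add_sc, ← add_assoc]
  conv_rhs => arg 1; arg 1; rw [perp_decomp hu]
  rw [add_assoc (embI (projP u)) (Explicit.sc (u 0) c2), two_V6, add_zero]

theorem lineSec_model (hs : ¬ ∀ g ∈ K, Explicit.Lin g) : USixTwo.Model4 (lineSec h).range where
  le := by rintro _ ⟨k, rfl⟩; exact lineSec_iso h k
  card := by
    rw [← card_lineStab h hs]
    exact (Nat.card_congr (MonoidHom.ofInjective (lineSec_injective h hs)).toEquiv).symm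

end

section

variable {G : Type*} [Group G]

/-- The centraliser of `E` modulo `E`. -/
abbrev LineQuot (E : Subgroup G) : Type _ :=
  ↥(Subgroup.centralizer (E : Set G)) ⧸ E.subgroupOf (Subgroup.centralizer (E : Set G))

/-- The image of `Q` in the centraliser of `E` modulo `E`. -/
def lineJ (Q E : Subgroup G) [(E.subgroupOf (Subgroup.centralizer (E : Set G))).Normal] : Subgroup (LineQuot E) :=
  (Q.subgroupOf (Subgroup.centralizer (E : Set G))).map
    (QuotientGroup.mk' (E.subgroupOf (Subgroup.centralizer (E : Set G))))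

/-- The coordinates on the centraliser of `E` modulo `E`. -/
noncomputable def lineπ (π : G → V6) (E : Subgroup G) (x : LineQuot E) : Recognition.USixTwo.V4 :=
  projP (π (x.out : G))

end

end CfsgLib.Sporadic.LargeFischer.SixTwo

namespace CfsgLib.Sporadic.LargeFischer.LF

open SixTwo CfsgLib.ThreeTransp.Extraspecial CfsgLib.Recognition

variable {G : Type*} [Group G] [Finite G] {z : G} {Q : Subgroup (Subgroup.centralizer ({z} : Set G))} [Q.Normal]
  {π : G → V6} {ψ : ↥(Subgroup.centralizer ({z} : Set G)) →* (V6 ≃ₗ[ZMod 2] V6)} (h : LF z (qImg Q) π ψ)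
  (hpos : h.model.orb (c6 0) = h.model.orb c2)
include h hpos

theorem mem_cent_z {E : Subgroup G} {v : V6} (hE : IsLine z (qImg Q) π v E) :
    z ∈ Subgroup.centralizer (E : Set G) :=
  Subgroup.mem_centralizer_iff.2 fun a ha => h.cent_z (hE.le ha)

theorem line_normal {E : Subgroup G} {v : V6} (hE : IsLine z (qImg Q) π v E) :
    (E.subgroupOf (Subgroup.centralizer (E : Set G))).Normal :=
  ⟨fun n hn c => by
    have e : c * n = n * c := Subtype.ext (Subgroup.mem_centralizer_iff.1 c.2 n hn).symm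
    rw [e, mul_inv_cancel_right]; exact hn⟩

section

variable {E : Subgroup G} (hE : IsLine z (qImg Q) π c2 E)
include hE

theorem line_surj (a : D4) : ∃ e ∈ E, π e = Explicit.sc a c2 := by
  obtain ⟨a₀, ha₀, a₁, ha₁, e₀, e₁, -⟩ := h.line_gens hpos hE
  rcases scal_cases a c2 with e | e | e | e <;> rw [e]
  · exact ⟨1, one_mem _, h.π_one⟩
  · exact ⟨a₀, ha₀, e₀⟩
  · exact ⟨a₁, ha₁, e₁⟩
  · exact ⟨a₀ * a₁, mul_mem ha₀ ha₁, by rw [h.π_mul _ (hE.le ha₀) _ (hE.le ha₁), e₀, e₁]⟩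

theorem perp_of_mem {q : G} (hq : q ∈ qImg Q) (hqC : q ∈ Subgroup.centralizer (E : Set G)) : π q 0 = π q 1 := by
  obtain ⟨e1, e2⟩ := (h.q_mem_cent_line hpos hE hq).1 hqC
  exact perp_shape e1 e2

variable [(E.subgroupOf (Subgroup.centralizer (E : Set G))).Normal]


theorem mk_eq_mk {c c' : ↥(Subgroup.centralizer (E : Set G))} (e : (QuotientGroup.mk c : (LineQuot E)) = QuotientGroup.mk c') : (c : G)⁻¹ * c' ∈ E :=
  Subgroup.mem_subgroupOf.1 (QuotientGroup.eq.1 e)

theorem mk_eq_one {c : ↥(Subgroup.centralizer (E : Set G))} : (QuotientGroup.mk c : (LineQuot E)) = 1 ↔ (c : G) ∈ E :=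
  (QuotientGroup.eq_one_iff c).trans Subgroup.mem_subgroupOf

/-- Lifts of the centraliser of the image of `z` centralise `z`. -/
theorem lift_cent {c : ↥(Subgroup.centralizer (E : Set G))} (e : Commute (QuotientGroup.mk c : (LineQuot E))
      (QuotientGroup.mk ⟨z, h.mem_cent_z hpos hE⟩)) : (c : G) ∈ cH z E := by
  refine ⟨c.2, Subgroup.mem_centralizer_singleton_iff.2 ?_⟩
  have hm : z⁻¹ * ((c : G) * z * (c : G)⁻¹) ∈ E := by
    have e1 : (QuotientGroup.mk (c * ⟨z, h.mem_cent_z hpos hE⟩ * c⁻¹) : (LineQuot E)) =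
        QuotientGroup.mk ⟨z, h.mem_cent_z hpos hE⟩ := by
      rw [QuotientGroup.mk_mul, QuotientGroup.mk_mul, QuotientGroup.mk_inv, e.eq, mul_inv_cancel_right]
    exact h.mk_eq_mk hpos hE e1.symm
  set a := z⁻¹ * ((c : G) * z * (c : G)⁻¹) with ha
  have hcza : (c : G) * z * (c : G)⁻¹ = z * a := by rw [ha, mul_inv_cancel_left]
  by_cases ha1 : a = 1
  · rw [ha1, mul_one] at hcza
    exact mul_inv_eq_iff_eq_mul.1 hcza
  exfalso
  have hQ : (c : G) * z * (c : G)⁻¹ ∈ qImg Q := hcza ▸ mul_mem h.extra.z_mem (hE.le hm)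
  have hne : (c : G) * z * (c : G)⁻¹ ≠ z := fun e' => ha1 (mul_left_cancel (a := z) (by
    rw [← hcza, e', mul_one]))
  have hπ : π ((c : G) * z * (c : G)⁻¹) = π a := by
    rw [hcza, h.π_mul _ h.extra.z_mem _ (hE.le hm), h.π_z, zero_add]
  have horb := h.fused_orbit hQ hne
  rw [hπ] at horb
  have h2 : π a ∈ h.model.orb c2 := ((h.std hpos).orb_iff _).2 (h.line_pos hpos hE hm ha1)
  rw [h.model.orb_eq h2] at horb
  have h4 : Explicit.inOb c4 = true := ((h.std hpos).orb_iff _).1 (horb ▸ h.model.self_mem c4)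
  exact absurd h4 (by decide +kernel)

theorem mk_mem_cent {c : ↥(Subgroup.centralizer (E : Set G))} (hc : (c : G) ∈ cH z E) : (QuotientGroup.mk c : (LineQuot E)) ∈
    Subgroup.centralizer ({QuotientGroup.mk ⟨z, h.mem_cent_z hpos hE⟩} : Set (LineQuot E)) :=
  Subgroup.mem_centralizer_singleton_iff.2 (by
    rw [← QuotientGroup.mk_mul, ← QuotientGroup.mk_mul]
    exact congrArg _ (Subtype.ext (Subgroup.mem_centralizer_singleton_iff.1 hc.2)))

theorem out_mem (x : ↥(Subgroup.centralizer ({QuotientGroup.mk ⟨z, h.mem_cent_z hpos hE⟩} : Set (LineQuot E)))) :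
    (x.1.out : G) ∈ cH z E :=
  h.lift_cent hpos hE (by
    rw [show (QuotientGroup.mk x.1.out : (LineQuot E)) = x.1 from Quotient.out_eq _]
    exact Subgroup.mem_centralizer_singleton_iff.1 x.2)

omit hE in
theorem lineAct_eq {E : Subgroup G} (hE : IsLine z (qImg Q) π c2 E) {c c' : ↥(cH z E)}
    (e : (c : G)⁻¹ * c' ∈ E) : lineAct ψ E c' = lineAct ψ E c := by
  have : lineAct ψ E (c⁻¹ * c') = 1 := (h.ker _).2 (hE.le e)
  rwa [map_mul, map_inv, inv_mul_eq_one, eq_comm] at this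

/-- The map to the stabiliser, on the centraliser of the image of `z`. -/
noncomputable def secLift (x : ↥(Subgroup.centralizer ({QuotientGroup.mk ⟨z, h.mem_cent_z hpos hE⟩} : Set (LineQuot E)))) :
    ↥(lineStab ψ.range) :=
  ⟨lineAct ψ E ⟨(x.1.out : G), h.out_mem hpos hE x⟩, h.lineAct_range hpos hE ▸ ⟨_, rfl⟩⟩

theorem secLift_eq (x : ↥(Subgroup.centralizer ({QuotientGroup.mk ⟨z, h.mem_cent_z hpos hE⟩} : Set (LineQuot E))))
    {c : ↥(Subgroup.centralizer (E : Set G))} (hc : (c : G) ∈ cH z E) (e : (QuotientGroup.mk c : (LineQuot E)) = x.1) :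
    (h.secLift hpos hE x : V6 ≃ₗ[ZMod 2] V6) = lineAct ψ E ⟨c, hc⟩ :=
  h.lineAct_eq hpos hE (c := ⟨c, hc⟩) (c' := ⟨_, h.out_mem hpos hE x⟩)
    (h.mk_eq_mk hpos hE (e.trans (Quotient.out_eq _).symm))

/-- The representation of the centraliser of the image of `z`. -/
noncomputable def secHom : ↥(Subgroup.centralizer ({QuotientGroup.mk ⟨z, h.mem_cent_z hpos hE⟩} : Set (LineQuot E))) →*
    ↥(lineStab ψ.range) :=
  MonoidHom.mk' (h.secLift hpos hE) fun x y => Subtype.ext (by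
    rw [h.secLift_eq hpos hE (x * y) (c := x.1.out * y.1.out)
      (mul_mem (h.out_mem hpos hE x) (h.out_mem hpos hE y))
      (by rw [QuotientGroup.mk_mul]; exact congrArg₂ (· * ·) (Quotient.out_eq _) (Quotient.out_eq _))]
    exact map_mul (lineAct ψ E) ⟨_, h.out_mem hpos hE x⟩ ⟨_, h.out_mem hpos hE y⟩)

theorem secπ_mk {c : ↥(Subgroup.centralizer (E : Set G))} (hc : (c : G) ∈ qImg Q) :
    lineπ π E (QuotientGroup.mk c) = projP (π c) := by
  have hm := h.mk_eq_mk hpos hE (Quotient.out_eq (QuotientGroup.mk c : (LineQuot E))).symm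
  show projP (π (((QuotientGroup.mk c : (LineQuot E)).out : ↥(Subgroup.centralizer (E : Set G))) : G)) = _
  rw [show (((QuotientGroup.mk c : (LineQuot E)).out : ↥(Subgroup.centralizer (E : Set G))) : G) = c * ((c : G)⁻¹ * (QuotientGroup.mk c : (LineQuot E)).out) from
    (mul_inv_cancel_left _ _).symm, h.π_mul _ hc _ (hE.le hm), map_add]
  obtain ⟨a, ha⟩ := hE.line _ hm
  rw [ha, projP_sc_c2, add_zero]

theorem mem_secJ {x : (LineQuot E)} :
    x ∈ lineJ (qImg Q) E ↔ ∃ c : ↥(Subgroup.centralizer (E : Set G)), (c : G) ∈ qImg Q ∧ QuotientGroup.mk c = x :=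
  ⟨fun ⟨c, hc, e⟩ => ⟨c, hc, e⟩, fun ⟨c, hc, e⟩ => ⟨c, hc, e⟩⟩

theorem mk_mem_secJ {c : ↥(Subgroup.centralizer (E : Set G))} : (QuotientGroup.mk c : (LineQuot E)) ∈ lineJ (qImg Q) E ↔ (c : G) ∈ qImg Q := by
  rw [h.mem_secJ hpos hE]
  exact ⟨fun ⟨d, hd, e⟩ => by
    have := mul_mem hd (hE.le (h.mk_eq_mk hpos hE e))
    rwa [mul_inv_cancel_left] at this, fun e => ⟨c, e, rfl⟩⟩

theorem card_secJ : Nat.card ↥(lineJ (qImg Q) E) = 512 := by
  set f := (QuotientGroup.mk' (E.subgroupOf (Subgroup.centralizer (E : Set G)))).comp ((qImg Q).subgroupOf (Subgroup.centralizer (E : Set G))).subtype with hf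
  have hr : f.range = lineJ (qImg Q) E := by rw [hf, MonoidHom.range_comp, Subgroup.range_subtype]; rfl
  have hm := f.ker.card_mul_index
  rw [Subgroup.index_ker, hr] at hm
  have hk : Nat.card f.ker = 4 := by
    rw [← hE.card]
    refine Nat.card_congr (Equiv.ofBijective (fun a => (⟨a.1.1.1, (h.mk_eq_one hpos hE).1 a.2⟩ : ↥E))
      ⟨fun a b e => ?_, fun e => ⟨⟨⟨⟨e, h.line_commutative hpos hE e.2⟩, hE.le e.2⟩,
        (h.mk_eq_one hpos hE).2 e.2⟩, rfl⟩⟩)
    exact Subtype.ext (Subtype.ext (Subtype.ext (congrArg Subtype.val e :)))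
  have hc : Nat.card ↥((qImg Q).subgroupOf (Subgroup.centralizer (E : Set G))) = 2048 := by
    rw [← h.card_qE hpos hE]
    refine Nat.card_congr (Equiv.ofBijective
      (fun a => (⟨a.1.1, a.2, a.1.2⟩ : ↥(qImg Q ⊓ (Subgroup.centralizer (E : Set G))))) ⟨fun a b e => ?_, fun a => ⟨⟨⟨a, a.2.2⟩, a.2.1⟩, rfl⟩⟩)
    exact Subtype.ext (Subtype.ext (congrArg Subtype.val e :))
  rw [hk, hc] at hm
  exact Nat.eq_of_mul_eq_mul_left (by norm_num : 0 < 4) hm

theorem sec_mul_self {x : (LineQuot E)} {c : ↥(Subgroup.centralizer (E : Set G))} (hc : (c : G) ∈ qImg Q) (e : QuotientGroup.mk c = x) :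
    x * x = 1 ↔ qs (π c) = 0 := by
  rw [← e, ← QuotientGroup.mk_mul, h.mk_eq_one hpos hE, h.q_iff _ hc]
  refine ⟨fun hm => ?_, fun e1 => by rw [Subgroup.coe_mul, e1]; exact one_mem _⟩
  rcases h.extra.sq_cases hc with e1 | e1
  · exact e1
  · rw [Subgroup.coe_mul, e1] at hm
    exact absurd hm hE.notMem

theorem sec_π_zero {x : (LineQuot E)} {c : ↥(Subgroup.centralizer (E : Set G))} (hc : (c : G) ∈ qImg Q) (e : QuotientGroup.mk c = x)
    (e0 : projP (π c) = 0) : x = 1 ∨ x = QuotientGroup.mk ⟨z, h.mem_cent_z hpos hE⟩ := by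
  have e1 := eq_sc_of_projP (h.perp_of_mem hpos hE hc c.2) e0
  obtain ⟨a, ha, ea⟩ := h.line_surj hpos hE (π c 0)
  rcases (h.π_eq_iff (hE.le ha) hc).1 (ea.trans e1.symm) with e2 | e2
  · exact Or.inl (by rw [← e, h.mk_eq_one hpos hE, e2]; exact ha)
  · refine Or.inr (e.symm.trans (QuotientGroup.eq.2 (Subgroup.mem_subgroupOf.2 ?_)))
    show (c : G)⁻¹ * z ∈ E
    rw [e2, mul_inv_rev, mul_assoc, h.cent_z (inv_mem (hE.le ha)), ← mul_assoc, inv_mul_cancel, one_mul]
    exact inv_mem ha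

theorem secJ_extra : Extra (lineJ (qImg Q) E) (QuotientGroup.mk ⟨z, h.mem_cent_z hpos hE⟩ : (LineQuot E)) := by
  set zb : (LineQuot E) := QuotientGroup.mk ⟨z, h.mem_cent_z hpos hE⟩ with hzb
  set J := lineJ (qImg Q) E with hJ
  have hzJ : zb ∈ J := (h.mk_mem_secJ hpos hE).2 h.extra.z_mem
  have hz1 : zb ≠ 1 := fun e => hE.notMem ((h.mk_eq_one hpos hE).1 e)
  have hz2 : zb * zb = 1 := (h.sec_mul_self hpos hE (c := ⟨z, h.mem_cent_z hpos hE⟩) h.extra.z_mem rfl).2 (by
    show qs (π z) = 0; rw [h.π_z]; rfl)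
  have hzc : ∀ x ∈ J, x * zb = zb * x := by
    intro x hx
    obtain ⟨c, hc, rfl⟩ := (h.mem_secJ hpos hE).1 hx
    rw [hzb, ← QuotientGroup.mk_mul, ← QuotientGroup.mk_mul]
    exact congrArg _ (Subtype.ext (h.cent_z hc))
  have hcen : ∀ x : ↥J, x ∈ Subgroup.center ↥J → x = 1 ∨ x = ⟨zb, hzJ⟩ := by
    rintro ⟨x, hx⟩ hxc
    obtain ⟨c, hc, e⟩ := (h.mem_secJ hpos hE).1 hx
    have e0 : projP (π c) = 0 := bs4_nondeg fun w => by
      obtain ⟨q, hq, eq⟩ := h.π_surj (embI w)
      have hqC : q ∈ (Subgroup.centralizer (E : Set G)) := (h.q_mem_cent_line hpos hE hq).2 (by rw [eq]; exact embI_perp w)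
      have hcomm := congrArg Subtype.val
        (Subgroup.mem_center_iff.1 hxc ⟨QuotientGroup.mk ⟨q, hqC⟩, (h.mk_mem_secJ hpos hE).2 hq⟩)
      change (QuotientGroup.mk ⟨q, hqC⟩ : (LineQuot E)) * x = x * QuotientGroup.mk ⟨q, hqC⟩ at hcomm
      rw [← e, ← QuotientGroup.mk_mul, ← QuotientGroup.mk_mul] at hcomm
      have hm := h.mk_eq_mk hpos hE hcomm
      simp only [Subgroup.coe_mul] at hm
      rw [← projP_embI w, ← eq, bs4_projP (h.perp_of_mem hpos hE hc c.2) (h.perp_of_mem hpos hE hq hqC)]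
      refine (z2 _).resolve_right fun e1 => hE.notMem ?_
      have e2 := h.swap hc hq
      rw [e1, zp_one] at e2
      have e3 : (q * (c : G))⁻¹ * ((c : G) * q) = z := by
        rw [inv_mul_eq_iff_eq_mul, e2, mul_assoc, h.extra.z_sq, mul_one]
      rwa [e3] at hm
    rcases h.sec_π_zero hpos hE hc e e0 with e1 | e1
    · exact Or.inl (Subtype.ext e1)
    · exact Or.inr (Subtype.ext e1)
  have hP : IsPGroup 2 ↥J := IsPGroup.of_card (n := 9) (h.card_secJ hpos hE)
  have hzcen : (⟨zb, hzJ⟩ : ↥J) ∈ Subgroup.center ↥J :=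
    Subgroup.mem_center_iff.2 fun y => Subtype.ext (hzc y y.2)
  have hne : (⟨zb, hzJ⟩ : ↥J) ≠ 1 := fun e => hz1 (congrArg Subtype.val e)
  have hZ : Nat.card (Subgroup.center ↥J) = 2 := (Nat.card_eq_two_iff' (1 : ↥(Subgroup.center ↥J))).2
    ⟨⟨_, hzcen⟩, fun e => hne (congrArg Subtype.val e), fun y hy =>
      Subtype.ext ((hcen y.1 y.2).resolve_left fun e => hy (Subtype.ext e))⟩
  refine Extra.of_center (CfsgLib.Solvable.RankTwoUnipotent.isExtraspecial_of_squares hP hZ.le (fun x => ?_) ?_) ?_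
  · obtain ⟨c, hc, e⟩ := (h.mem_secJ hpos hE).1 x.2
    rcases h.extra.sq_cases hc with e1 | e1
    · have : x ^ 2 = 1 := Subtype.ext (by
        show (x : (LineQuot E)) ^ 2 = 1
        rw [pow_two, h.sec_mul_self hpos hE hc e, h.q_iff _ hc, e1])
      rw [this]; exact one_mem _
    · have : x ^ 2 = ⟨zb, hzJ⟩ := Subtype.ext (by
        show (x : (LineQuot E)) ^ 2 = zb
        rw [pow_two, ← e, ← QuotientGroup.mk_mul, hzb]
        exact congrArg _ (Subtype.ext e1))
      rw [this]; exact hzcen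
  · obtain ⟨a, ha, ea⟩ := h.π_surj (embI ![(1, 0), 0, 0, 0])
    obtain ⟨b, hb, eb⟩ := h.π_surj (embI ![(0, 1), 0, 0, 0])
    have haC : a ∈ (Subgroup.centralizer (E : Set G)) := (h.q_mem_cent_line hpos hE ha).2 (by rw [ea]; exact embI_perp _)
    have hbC : b ∈ (Subgroup.centralizer (E : Set G)) := (h.q_mem_cent_line hpos hE hb).2 (by rw [eb]; exact embI_perp _)
    refine ⟨⟨QuotientGroup.mk ⟨a, haC⟩, (h.mk_mem_secJ hpos hE).2 ha⟩,
      ⟨QuotientGroup.mk ⟨b, hbC⟩, (h.mk_mem_secJ hpos hE).2 hb⟩, fun e => ?_⟩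
    have e' := congrArg Subtype.val e
    change (QuotientGroup.mk ⟨a, haC⟩ : (LineQuot E)) * QuotientGroup.mk ⟨b, hbC⟩ =
      QuotientGroup.mk ⟨b, hbC⟩ * QuotientGroup.mk ⟨a, haC⟩ at e'
    rw [← QuotientGroup.mk_mul, ← QuotientGroup.mk_mul] at e'
    have hm := h.mk_eq_mk hpos hE e'
    simp only [Subgroup.coe_mul] at hm
    refine hE.notMem ?_
    have h1 : bs (π a) (π b) = 1 := by
      rw [← bs4_projP (h.perp_of_mem hpos hE ha haC) (h.perp_of_mem hpos hE hb hbC), ea, eb, projP_embI,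
        projP_embI, bs4_unit]
    have e2 := h.swap ha hb
    rw [h1, zp_one] at e2
    rwa [show (a * b)⁻¹ * (b * a) = z by rw [e2, ← mul_assoc, inv_mul_cancel, one_mul]] at hm
  · refine le_antisymm ?_ ?_
    · rintro _ ⟨y, hy, rfl⟩
      rcases hcen y hy with rfl | rfl
      · exact one_mem _
      · exact Subgroup.mem_zpowers _
    · rw [Subgroup.zpowers_le]
      exact ⟨_, hzcen, rfl⟩

/-- The quotient has the configuration of the recognition of the unitary group of dimension six. -/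
theorem sec_core (hs : ¬ ∀ k ∈ ψ.range, Explicit.Lin k) :
    USixTwo.Core (QuotientGroup.mk ⟨z, h.mem_cent_z hpos hE⟩ : (LineQuot E)) (lineJ (qImg Q) E) (lineπ π E)
      ((lineSec (h.std hpos)).comp (h.secHom hpos hE)) := by
  have hext := h.secJ_extra hpos hE
  have hact : ∀ x : ↥(Subgroup.centralizer ({QuotientGroup.mk ⟨z, h.mem_cent_z hpos hE⟩} : Set (LineQuot E))),
      ∀ a ∈ lineJ (qImg Q) E, x.1 * a * (x.1)⁻¹ ∈ lineJ (qImg Q) E ∧
        lineπ π E (x.1 * a * (x.1)⁻¹) = lineSec (h.std hpos) (h.secHom hpos hE x) (lineπ π E a) := by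
    intro x a ha
    obtain ⟨q, hq, rfl⟩ := (h.mem_secJ hpos hE).1 ha
    set c := x.1.out with hc
    have hcH : (c : G) ∈ cH z E := h.out_mem hpos hE x
    obtain ⟨hm, he⟩ := h.π_conj ⟨(c : G), hcH.2⟩ hq
    have e1 : x.1 * QuotientGroup.mk q * (x.1)⁻¹ = (QuotientGroup.mk (c * q * c⁻¹) : (LineQuot E)) := by
      rw [QuotientGroup.mk_mul, QuotientGroup.mk_mul, QuotientGroup.mk_inv,
        show (QuotientGroup.mk c : (LineQuot E)) = x.1 from Quotient.out_eq _]
    refine ⟨e1 ▸ (h.mk_mem_secJ hpos hE).2 hm, ?_⟩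
    rw [e1, h.secπ_mk hpos hE (c := c * q * c⁻¹) hm, h.secπ_mk hpos hE hq, lineSec_apply]
    show projP (π ((c : G) * q * (c : G)⁻¹)) = _
    rw [he, ← projP_apply (h.std hpos) (h.secHom hpos hE x).2 (h.perp_of_mem hpos hE hq q.2)]
    rfl
  refine
    { ord_z := ?_
      extra := hext
      card_J := h.card_secJ hpos hE
      norm := fun c hc a ha => (hact ⟨c, Subgroup.mem_centralizer_singleton_iff.2 hc⟩ a ha).1
      cent_le := ?_
      π_mul := ?_
      π_surj := ?_
      π_ker := ?_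
      q_iff := ?_
      act := fun x a ha => (hact x a ha).2
      ker := ?_
      model := ?_ }
  · exact orderOf_eq_prime (by rw [pow_two, hext.z_sq]) hext.z_ne
  · intro c hc
    have hcz : c ∈ Subgroup.centralizer ({QuotientGroup.mk ⟨z, h.mem_cent_z hpos hE⟩} : Set (LineQuot E)) :=
      Subgroup.mem_centralizer_singleton_iff.2 (hc _ hext.z_mem)
    have h1 : lineSec (h.std hpos) (h.secHom hpos hE ⟨c, hcz⟩) = 1 := by
      refine LinearEquiv.ext fun v => ?_
      obtain ⟨q, hq, eq⟩ := h.π_surj (embI v)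
      have hqC : q ∈ (Subgroup.centralizer (E : Set G)) := (h.q_mem_cent_line hpos hE hq).2 (by rw [eq]; exact embI_perp v)
      have hqJ := (h.mk_mem_secJ hpos hE (c := ⟨q, hqC⟩)).2 hq
      have e := (hact ⟨c, hcz⟩ _ hqJ).2
      rw [hc _ hqJ, mul_inv_cancel_right, h.secπ_mk hpos hE (c := ⟨q, hqC⟩) hq, eq, projP_embI] at e
      exact e.symm
    have h2 : h.secHom hpos hE ⟨c, hcz⟩ = 1 := lineSec_injective (h.std hpos) hs (by rw [h1, map_one])
    have h3 : (c.out : G) ∈ qImg Q := (h.ker _).1 (congrArg Subtype.val h2)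
    have := (h.mk_mem_secJ hpos hE).2 h3
    rwa [show (QuotientGroup.mk c.out : (LineQuot E)) = c from Quotient.out_eq _] at this
  · intro a ha b hb
    obtain ⟨p, hp, rfl⟩ := (h.mem_secJ hpos hE).1 ha
    obtain ⟨q, hq, rfl⟩ := (h.mem_secJ hpos hE).1 hb
    rw [← QuotientGroup.mk_mul, h.secπ_mk hpos hE (c := p * q) (mul_mem hp hq), h.secπ_mk hpos hE hp,
      h.secπ_mk hpos hE hq, ← map_add, Subgroup.coe_mul, h.π_mul _ hp _ hq]
  · intro v
    obtain ⟨q, hq, eq⟩ := h.π_surj (embI v)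
    have hqC : q ∈ (Subgroup.centralizer (E : Set G)) := (h.q_mem_cent_line hpos hE hq).2 (by rw [eq]; exact embI_perp v)
    exact ⟨_, (h.mk_mem_secJ hpos hE (c := ⟨q, hqC⟩)).2 hq, by rw [h.secπ_mk hpos hE hq, eq, projP_embI]⟩
  · intro a ha
    obtain ⟨q, hq, rfl⟩ := (h.mem_secJ hpos hE).1 ha
    constructor
    · intro e; rw [h.secπ_mk hpos hE hq] at e; exact h.sec_π_zero hpos hE hq rfl e
    · rintro (e | e) <;> rw [e]
      · rw [← QuotientGroup.mk_one, h.secπ_mk hpos hE (one_mem _), Subgroup.coe_one, h.π_one, map_zero]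
      · rw [h.secπ_mk hpos hE (c := ⟨z, h.mem_cent_z hpos hE⟩) h.extra.z_mem, h.π_z, map_zero]
  · intro a ha
    obtain ⟨q, hq, rfl⟩ := (h.mem_secJ hpos hE).1 ha
    rw [h.secπ_mk hpos hE hq, q4_projP (h.perp_of_mem hpos hE hq q.2), h.sec_mul_self hpos hE hq rfl]
  · intro x
    have hk : h.secHom hpos hE x = 1 ↔ (x.1.out : G) ∈ qImg Q :=
      ⟨fun e => (h.ker _).1 (congrArg Subtype.val e), fun e => Subtype.ext ((h.ker _).2 e)⟩
    have he : (QuotientGroup.mk x.1.out : (LineQuot E)) = x.1 := Quotient.out_eq _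
    rw [MonoidHom.comp_apply, ← he, h.mk_mem_secJ hpos hE, ← hk]
    exact ⟨fun e => lineSec_injective (h.std hpos) hs (e.trans (map_one _).symm), fun e => by rw [e, map_one]⟩
  · have hr : (h.secHom hpos hE).range = ⊤ := by
      rw [eq_top_iff]
      rintro ⟨k, hk⟩ -
      rw [← h.lineAct_range hpos hE] at hk
      obtain ⟨⟨c, hc⟩, rfl⟩ := hk
      have hc' : ((⟨c, hc.1⟩ : ↥(Subgroup.centralizer (E : Set G))) : G) ∈ cH z E := hc
      exact ⟨⟨_, h.mk_mem_cent hpos hE hc'⟩,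
        Subtype.ext (h.secLift_eq hpos hE ⟨_, h.mk_mem_cent hpos hE hc'⟩ hc' rfl)⟩
    rw [MonoidHom.range_comp, hr, ← MonoidHom.range_eq_map]
    exact lineSec_model (h.std hpos) hs

end

end CfsgLib.Sporadic.LargeFischer.LF
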