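import Cfsg.Agent.Lib.Sporadic.LargeFischer.SixTwo.ModelCore
import Cfsg.Agent.Lib.Recognition.USixTwo.Outside
import Cfsg.Agent.Lib.Involution.ZStar.Main
import Cfsg.Agent.Lib.Involution.ZStar.Corollaries
import Cfsg.Agent.S0283

/-!
# Groups of large Fischer type: the quotient of the centraliser of a line four-group is `PSU₆(2)`
-/

set_option autoImplicit false
set_option linter.style.haveILetI false
set_option linter.unusedSectionVars false
set_option maxRecDepth 100000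

namespace CfsgLib.Sporadic.LargeFischer.SixTwo

open CfsgLib.ThreeTransp.Extraspecial

/-- In a group with an isolated involution `z` and a normalised extraspecial group `J` of `C(z)` of known
order, an element of `C(z)` with a big enough centralizer lies in `J`. -/
theorem mem_of_isolated {X : Type*} [Group X] [Finite X] {z : X} {J : Subgroup X} (hJ : Extra J z)
    (hJc : Nat.card J = 512) (hnorm : ∀ c, c * z = z * c → ∀ a ∈ J, c * a * c⁻¹ ∈ J)
    (hcl : ∀ c, (∀ a ∈ J, c * a = a * c) → c ∈ J)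
    (hC : Nat.card ↥(Subgroup.centralizer ({z} : Set X)) = 25920 * 512)
    (hiso : Cfsg.IsIsolatedInvolution z) {w : X} (hwz : w * z = z * w)
    (hbig : 2 ^ 15 ∣ Nat.card ↥(Subgroup.centralizer ({w} : Set X))) : w ∈ J := by
  haveI : Fact (Nat.Prime 2) := ⟨Nat.prime_two⟩
  set O := Cfsg.oddCore X with hO
  haveI hOn : O.Normal := CfsgLib.Involution.ZStar.oddCore_normal
  have hodd : Odd (Nat.card O) := CfsgLib.Involution.ZStar.odd_card_oddCore
  have hJp : IsPGroup 2 ↥J := IsPGroup.of_card (n := 9) hJc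
  have hOJ : ∀ x ∈ O, x ∈ J → x = 1 := fun x hxO hxJ => by
    have h1 : orderOf x ∣ 512 := by
      rw [← hJc]; exact Subgroup.orderOf_dvd_natCard J hxJ
    have h2 : orderOf x ∣ Nat.card O := Subgroup.orderOf_dvd_natCard O hxO
    have h3 : Nat.gcd 512 (Nat.card O) = 1 := by
      rw [show (512 : ℕ) = 2 ^ 9 by norm_num]
      exact Nat.Coprime.pow_left 9 hodd.coprime_two_left
    exact orderOf_eq_one_iff.1 (Nat.eq_one_of_dvd_one (h3 ▸ Nat.dvd_gcd h1 h2))
  -- an element of `C(z)` centralises `J` modulo `O` only if it lies in `J`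
  have hkey : ∀ c : X, c * z = z * c → (∀ a ∈ J, c * a * c⁻¹ * a⁻¹ ∈ O) → c ∈ J := fun c hcz hc =>
    hcl c fun a ha => mul_inv_eq_iff_eq_mul.1
      (mul_inv_eq_one.1 (hOJ _ (hc a ha) (mul_mem (hnorm c hcz a ha) (inv_mem ha))))
  have hOC : O ⊓ Subgroup.centralizer ({z} : Set X) = ⊥ := by
    rw [Subgroup.eq_bot_iff_forall]
    intro o ho
    refine hOJ o ho.1 (hkey o (Subgroup.mem_centralizer_singleton_iff.1 ho.2) fun a _ => ?_)
    rw [mul_assoc, mul_assoc, ← mul_assoc a]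
    exact mul_mem ho.1 (hOn.conj_mem _ (inv_mem ho.1) a)
  have hdec : ∀ x : X, ∃ o ∈ O, ∃ c ∈ Subgroup.centralizer ({z} : Set X), x = o * c :=
    fun x => CfsgLib.Involution.ZStar.exists_oddCore_mul_centralizer (CfsgLib.Involution.ZStar.starCentral X) hiso x
  have hcard : Nat.card O * (25920 * 512) = Nat.card X := by
    rw [← hC]
    refine (Subgroup.isComplement'_of_disjoint_and_mul_eq_univ (disjoint_iff.2 hOC) ?_).card_mul
    refine Set.eq_univ_of_forall fun x => ?_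
    obtain ⟨o, ho, c, hc, rfl⟩ := hdec x
    exact ⟨o, ho, c, hc, rfl⟩
  -- a Sylow subgroup centralising `w`
  obtain ⟨T₀, hT₀⟩ := Sylow.exists_subgroup_card_pow_prime 2 hbig
  set T := T₀.map (Subgroup.centralizer ({w} : Set X)).subtype with hT
  have hTc : Nat.card T = 2 ^ 15 := by
    rw [hT, Subgroup.card_map_of_injective (Subgroup.subtype_injective _), hT₀]
  have hmax : ∀ P : Subgroup X, IsPGroup 2 ↥P → T ≤ P → T = P := fun P hP hTP => by
    refine Subgroup.eq_of_le_of_card_ge hTP ?_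
    obtain ⟨k, hk⟩ := IsPGroup.iff_card.1 hP
    have hd : 2 ^ k ∣ 2 ^ 15 := by
      have h1 : 2 ^ k ∣ Nat.card X := hk ▸ P.card_subgroup_dvd_card
      rw [← hcard, show Nat.card O * (25920 * 512) = (Nat.card O * 405) * 2 ^ 15 by ring] at h1
      exact (Nat.Coprime.pow_left k (hodd.mul (by decide)).coprime_two_left).dvd_of_dvd_mul_left h1
    rw [hk, hTc]
    exact Nat.le_of_dvd (by norm_num) hd
  obtain ⟨P₁, hP₁⟩ := hJp.exists_le_sylow
  obtain ⟨P₂, hP₂⟩ := (IsPGroup.of_card hTc).exists_le_sylow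
  obtain ⟨x, hx⟩ := MulAction.exists_smul_eq X P₁ P₂
  obtain ⟨o, ho, c, hc, hxoc⟩ := hdec x
  have hc' := Subgroup.mem_centralizer_singleton_iff.1 hc
  have hcomm : ∀ a ∈ J, w * (x * a * x⁻¹) = x * a * x⁻¹ * w := fun a ha => by
    have hm : x * a * x⁻¹ ∈ (P₂ : Subgroup X) := by rw [← hx]; exact ⟨a, hP₁ ha, rfl⟩
    rw [← hmax _ P₂.isPGroup' hP₂] at hm
    obtain ⟨t, -, e⟩ := hm
    rw [← e]
    exact (Subgroup.mem_centralizer_singleton_iff.1 t.2).symm
  have hci : c⁻¹ * z = z * c⁻¹ := (Commute.inv_left hc').eq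
  have hwJ : c⁻¹ * w * c ∈ J := by
    refine hkey _ ?_ fun a ha => ?_
    · exact (((show Commute c⁻¹ z from hci).mul_left hwz).mul_left hc').eq
    rw [← QuotientGroup.eq_one_iff (N := O)]
    have e := congrArg (QuotientGroup.mk' O) (hcomm a ha)
    rw [hxoc] at e
    have ho1 : (QuotientGroup.mk' O) o = 1 := (QuotientGroup.eq_one_iff o).2 ho
    simp only [map_mul, map_inv, ho1, one_mul] at e
    simp only [QuotientGroup.mk'_apply] at e
    simp only [QuotientGroup.mk_mul, QuotientGroup.mk_inv]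
    calc (c : X ⧸ O)⁻¹ * w * c * a * ((c : X ⧸ O)⁻¹ * w * c)⁻¹ * (a : X ⧸ O)⁻¹
        = (c : X ⧸ O)⁻¹ * ((w : X ⧸ O) * (c * a * (c : X ⧸ O)⁻¹)) * (w : X ⧸ O)⁻¹ * c * (a : X ⧸ O)⁻¹ := by group
      _ = 1 := by rw [e]; group
  have := hnorm c hc' _ hwJ
  rwa [show c * (c⁻¹ * w * c) * c⁻¹ = w by group] at this

end CfsgLib.Sporadic.LargeFischer.SixTwo

namespace CfsgLib.Sporadic.LargeFischer.LF

open SixTwo CfsgLib.ThreeTransp.Extraspecial CfsgLib.Recognition

variable {G : Type*} [Group G] [Finite G] {z : G} {Q : Subgroup (Subgroup.centralizer ({z} : Set G))} [Q.Normal]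
  {π : G → V6} {ψ : ↥(Subgroup.centralizer ({z} : Set G)) →* (V6 ≃ₗ[ZMod 2] V6)} (h : LF z (qImg Q) π ψ)
  (hpos : h.model.orb (c6 0) = h.model.orb c2)
include h hpos

variable {E : Subgroup G} (hE : IsLine z (qImg Q) π c2 E) [(E.subgroupOf (Subgroup.centralizer (E : Set G))).Normal]
include hE

/-- The centraliser of a conjugate commuting with `z` is big modulo `E`. -/
theorem line_partner_big (hs : ¬ ∀ k ∈ ψ.range, Explicit.Lin k) {g : G} {v' : V6}
    (hE' : IsLine z (qImg Q) π v' (E.map (MulAut.conj g⁻¹).toMonoidHom)) :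
    ∃ hw : g * z * g⁻¹ ∈ Subgroup.centralizer (E : Set G),
      2 ^ 15 ∣ Nat.card ↥(Subgroup.centralizer ({QuotientGroup.mk ⟨g * z * g⁻¹, hw⟩} : Set (LineQuot E))) := by
  have hw : g * z * g⁻¹ ∈ Subgroup.centralizer (E : Set G) := Subgroup.mem_centralizer_iff.2 fun a ha => by
    have ha' : g⁻¹ * a * g ∈ qImg Q := hE'.le ⟨a, ha, by simp [mul_assoc]⟩
    calc a * (g * z * g⁻¹) = g * (g⁻¹ * a * g * z) * g⁻¹ := by group
      _ = g * z * g⁻¹ * a := by rw [h.cent_z ha']; group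
  refine ⟨hw, ?_⟩
  set S := Subgroup.centralizer ({⟨g * z * g⁻¹, hw⟩} : Set ↥(Subgroup.centralizer (E : Set G))) with hS
  have hSc : Nat.card S = 2048 * 25920 := by
    rw [← h.card_cH_any hpos hs hE']
    have hmem : ∀ c : G, c ∈ cH z (E.map (MulAut.conj g⁻¹).toMonoidHom) ↔
        g * c * g⁻¹ ∈ Subgroup.centralizer (E : Set G) ∧ g * c * g⁻¹ * (g * z * g⁻¹) = g * z * g⁻¹ * (g * c * g⁻¹) := by
      intro c
      show c ∈ Subgroup.centralizer _ ⊓ _ ↔ _
      rw [Subgroup.mem_inf, centralizer_map, Subgroup.mem_map_equiv, Subgroup.mem_centralizer_singleton_iff]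
      refine and_congr (by simp [mul_assoc]) ⟨fun e => ?_, fun e => ?_⟩
      · calc g * c * g⁻¹ * (g * z * g⁻¹) = g * (c * z) * g⁻¹ := by group
          _ = _ := by rw [e]; group
      · calc c * z = g⁻¹ * (g * c * g⁻¹ * (g * z * g⁻¹)) * g := by group
          _ = z * c := by rw [e]; group
    refine (Nat.card_congr (Equiv.ofBijective
      (fun c => (⟨⟨g * c.1 * g⁻¹, ((hmem c.1).1 c.2).1⟩,
        Subgroup.mem_centralizer_singleton_iff.2 (Subtype.ext ((hmem c.1).1 c.2).2)⟩ : ↥S))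
      ⟨fun a b e => Subtype.ext (mul_left_cancel (mul_right_cancel (congrArg (fun t => t.1.1) e))),
       fun s => ⟨⟨g⁻¹ * s.1.1 * g, (hmem _).2 ⟨by simp [mul_assoc],
        by simpa [mul_assoc] using congrArg Subtype.val (Subgroup.mem_centralizer_singleton_iff.1 s.2)⟩⟩,
        Subtype.ext (Subtype.ext (by simp [mul_assoc]))⟩⟩)).symm
  set f := (QuotientGroup.mk' (E.subgroupOf (Subgroup.centralizer (E : Set G)))).comp S.subtype with hf
  have hr : f.range ≤ Subgroup.centralizer ({QuotientGroup.mk ⟨g * z * g⁻¹, hw⟩} : Set (LineQuot E)) := by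
    rintro _ ⟨s, rfl⟩
    rw [Subgroup.mem_centralizer_singleton_iff]
    show QuotientGroup.mk s.1 * QuotientGroup.mk _ = QuotientGroup.mk _ * QuotientGroup.mk s.1
    rw [← QuotientGroup.mk_mul, ← QuotientGroup.mk_mul, Subgroup.mem_centralizer_singleton_iff.1 s.2]
  have hm := f.ker.card_mul_index
  rw [Subgroup.index_ker, hSc] at hm
  have hk : Nat.card f.ker ∣ 4 := by
    rw [← hE.card]
    refine Subgroup.card_dvd_of_injective
      (MonoidHom.mk' (fun a : ↥f.ker => (⟨a.1.1.1, (h.mk_eq_one hpos hE).1 a.2⟩ : ↥E)) fun a b => rfl)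
      fun a b e => Subtype.ext (Subtype.ext (Subtype.ext (congrArg Subtype.val e :)))
  refine dvd_trans ?_ (Subgroup.card_dvd_of_le hr)
  obtain ⟨k, hk⟩ := hk
  refine ⟨405 * k, Nat.eq_of_mul_eq_mul_left (by norm_num : 0 < 4) ?_⟩
  calc 4 * Nat.card f.range = Nat.card f.ker * Nat.card f.range * k := by rw [hk]; ring
    _ = 4 * (2 ^ 15 * (405 * k)) := by rw [hm]; ring

/-- The image of `z` is not isolated. -/
theorem line_not_isolated (hs : ¬ ∀ k ∈ ψ.range, Explicit.Lin k) {g : G}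
    (hwz : g * z * g⁻¹ * z = z * (g * z * g⁻¹)) (hwQ : g * z * g⁻¹ ∉ qImg Q) {v' : V6}
    (hE' : IsLine z (qImg Q) π v' (E.map (MulAut.conj g⁻¹).toMonoidHom)) :
    ∃ w, USixTwo.Member (QuotientGroup.mk ⟨z, h.mem_cent_z hpos hE⟩ : LineQuot E) w := by
  have hcore := h.sec_core hpos hE hs
  by_contra hc
  push Not at hc
  have hiso : Cfsg.IsIsolatedInvolution (QuotientGroup.mk ⟨z, h.mem_cent_z hpos hE⟩ : LineQuot E) := by
    refine ⟨hcore.ord_z, fun x hx => ?_⟩
    by_contra hne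
    exact hc _ ⟨isConj_iff.2 ⟨x, rfl⟩, hx.symm.eq, hne⟩
  obtain ⟨hw, hbig⟩ := h.line_partner_big hpos hE hs hE'
  refine hwQ ((h.mk_mem_secJ hpos hE (c := ⟨g * z * g⁻¹, hw⟩)).1 ?_)
  refine mem_of_isolated hcore.extra hcore.card_J hcore.norm hcore.cent_le hcore.card_cent hiso ?_ hbig
  rw [← QuotientGroup.mk_mul, ← QuotientGroup.mk_mul]
  exact congrArg _ (Subtype.ext hwz)

/-- The centraliser of a line four-group, modulo it, is `PSU₆(2)`. -/
theorem line_quot_psu (hs : ¬ ∀ k ∈ ψ.range, Explicit.Lin k) {g : G}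
    (hwz : g * z * g⁻¹ * z = z * (g * z * g⁻¹)) (hwQ : g * z * g⁻¹ ∉ qImg Q) {v' : V6}
    (hE' : IsLine z (qImg Q) π v' (E.map (MulAut.conj g⁻¹).toMonoidHom)) :
    Nonempty (LineQuot E ≃* Cfsg.PSU 6 CfsgLib.Sporadic.FieldFour 2) ∧ IsSimpleGroup (LineQuot E) ∧
      ∃ a b : LineQuot E, a * b ≠ b * a := by
  have hcore := h.sec_core hpos hE hs
  obtain ⟨e⟩ := hcore.exists_iso_psu (h.line_not_isolated hpos hE hs hwz hwQ hE')
    (K := CfsgLib.Sporadic.FieldFour) CfsgLib.Sporadic.FieldFour.card_eq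
  haveI := Cfsg.Agent.S0283.result (F := CfsgLib.Sporadic.FieldFour) (q := 2)
    (CfsgLib.Sporadic.FieldFour.card_eq.trans (by norm_num)) 6 (by norm_num) (by simp)
  refine ⟨⟨e⟩, e.isSimpleGroup, ?_⟩
  by_contra hc
  push Not at hc
  have hJ := hcore.extra.ext.2
  rw [(Subgroup.eq_top_iff' _).2 fun a : ↥(lineJ (qImg Q) E) =>
    Subgroup.mem_center_iff.2 fun b => Subtype.ext (hc b a), Subgroup.card_top, hcore.card_J] at hJ
  exact absurd hJ (by norm_num)

end CfsgLib.Sporadic.LargeFischer.LF
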