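import Cfsg.Agent.Lib.Sporadic.LargeFischer.SixTwo.CenterLine

/-!
# Groups of large Fischer type: from a line over `c2` to an arbitrary line
-/

set_option autoImplicit false
set_option linter.style.haveILetI false
set_option linter.unusedSectionVars false

namespace CfsgLib.Sporadic.LargeFischer

open SixTwo

/-- The centraliser of `E` is a quasisimple cover of `PSU₆(2)` by `E`. -/
def IsU62Line {G : Type*} [Group G] (E : Subgroup G) : Prop :=
  Cfsg.IsQuasisimple ↥(Subgroup.centralizer (E : Set G)) ∧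
    ∃ (_ : (E.subgroupOf (Subgroup.centralizer (E : Set G))).Normal) (K : Type) (_ : Field K) (_ : Fintype K),
      Fintype.card K = 4 ∧ Nonempty (↥(Subgroup.centralizer (E : Set G)) ⧸
        E.subgroupOf (Subgroup.centralizer (E : Set G)) ≃* Cfsg.PSU 6 K 2)

/-- An isomorphism of groups carrying one normal subgroup onto another gives one of the quotients. -/
noncomputable def quotEquiv' {A B : Type*} [Group A] [Group B] (c : A ≃* B) {N : Subgroup A} {M : Subgroup B}
    (hN : N.Normal) (hM : M.Normal) (e : N.map c.toMonoidHom = M) : (A ⧸ N) ≃* (B ⧸ M) :=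
  QuotientGroup.congr N M c e

theorem IsU62Line.map {G : Type*} [Group G] {E : Subgroup G} (hE : IsU62Line E) (e : G ≃* G) :
    IsU62Line (E.map e.toMonoidHom) := by
  obtain ⟨hq, hn, K, _, _, hK, ⟨iso⟩⟩ := hE
  set E₂ := E.map e.toMonoidHom with hE₂
  let c : ↥(Subgroup.centralizer (E : Set G)) ≃* ↥(Subgroup.centralizer (E₂ : Set G)) :=
    (e.subgroupMap (Subgroup.centralizer (E : Set G))).trans (MulEquiv.subgroupCongr (centralizer_map e E).symm)
  have hc : ∀ x, (c x : G) = e x := fun x => rfl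
  have hmap : (E.subgroupOf (Subgroup.centralizer (E : Set G))).map c.toMonoidHom =
      E₂.subgroupOf (Subgroup.centralizer (E₂ : Set G)) := by
    ext y
    obtain ⟨x, rfl⟩ := c.surjective y
    rw [Subgroup.mem_map_equiv, c.symm_apply_apply, Subgroup.mem_subgroupOf, Subgroup.mem_subgroupOf, hc, hE₂,
      Subgroup.mem_map_equiv, e.symm_apply_apply]
  have hn₂ : (E₂.subgroupOf (Subgroup.centralizer (E₂ : Set G))).Normal :=
    hmap ▸ hn.map c.toMonoidHom c.surjective
  have q2 := (quotEquiv' c hn hn₂ hmap).symm.trans iso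
  have hq2 := Components.IsQuasisimple.of_mulEquiv hq c
  unfold IsU62Line
  refine ⟨?_, ?_⟩
  · exact hq2
  refine ⟨?_, ?_⟩
  · exact hn₂
  refine ⟨K, ?_⟩
  refine ⟨‹_›, ‹_›, hK, ?_⟩
  refine ⟨?_⟩
  exact q2

namespace LF

variable {G : Type*} [Group G] [Finite G] {z : G} {Q : Subgroup (Subgroup.centralizer ({z} : Set G))} [Q.Normal]
  {π : G → V6} {ψ : ↥(Subgroup.centralizer ({z} : Set G)) →* (V6 ≃ₗ[ZMod 2] V6)} (h : LF z (qImg Q) π ψ)
include h

/-- It suffices to treat lines over `c2`. -/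
theorem u62_line_of_c2 (hpos : h.model.orb (c6 0) = h.model.orb c2)
    (hc2 : ∀ {g : G}, g * z * g⁻¹ * z = z * (g * z * g⁻¹) → g * z * g⁻¹ ∉ qImg Q → ∀ {E : Subgroup G} {v' : V6},
      IsLine z (qImg Q) π c2 E → IsLine z (qImg Q) π v' (E.map (MulAut.conj g⁻¹).toMonoidHom) → IsU62Line E)
    {g : G} (hwz : g * z * g⁻¹ * z = z * (g * z * g⁻¹)) (hwQ : g * z * g⁻¹ ∉ qImg Q) {E : Subgroup G} {v v' : V6}
    (hE : IsLine z (qImg Q) π v E) (hE' : IsLine z (qImg Q) π v' (E.map (MulAut.conj g⁻¹).toMonoidHom)) :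
    IsU62Line E := by
  obtain ⟨d, hd⟩ := h.exists_line_c2 hpos hE
  have hdz : (d : G) * z = z * d := Subgroup.mem_centralizer_singleton_iff.1 d.2
  have hconj : (d : G) * g * z * ((d : G) * g)⁻¹ = (d : G) * (g * z * g⁻¹) * (d : G)⁻¹ := by group
  have h1 : (d : G) * g * z * ((d : G) * g)⁻¹ * z = z * ((d : G) * g * z * ((d : G) * g)⁻¹) := by
    have hd' : Commute (d : G) z := hdz
    rw [hconj]
    exact ((hd'.mul_left (show Commute _ z from hwz)).mul_left hd'.inv_left).eq
  have h2 : (d : G) * g * z * ((d : G) * g)⁻¹ ∉ qImg Q := fun e => hwQ (by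
    have := h.norm (d : G)⁻¹ (show Commute (d : G) z from hdz).inv_left.eq _ e
    rwa [show (d : G)⁻¹ * ((d : G) * g * z * ((d : G) * g)⁻¹) * (d : G)⁻¹⁻¹ = g * z * g⁻¹ by group] at this)
  have h3 : (E.map (MulAut.conj (d : G)).toMonoidHom).map (MulAut.conj ((d : G) * g)⁻¹).toMonoidHom =
      E.map (MulAut.conj g⁻¹).toMonoidHom := by
    rw [Subgroup.map_map]
    congr 1
    refine MonoidHom.ext fun x => ?_
    show ((d : G) * g)⁻¹ * ((d : G) * x * (d : G)⁻¹) * ((d : G) * g)⁻¹⁻¹ = g⁻¹ * x * g⁻¹⁻¹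
    group
  have := (hc2 h1 h2 hd (h3 ▸ hE')).map (MulAut.conj ((d : G)⁻¹))
  rwa [Subgroup.map_map, show (MulAut.conj ((d : G)⁻¹)).toMonoidHom.comp (MulAut.conj (d : G)).toMonoidHom =
    MonoidHom.id G from MonoidHom.ext fun x => (by
      show (d : G)⁻¹ * ((d : G) * x * (d : G)⁻¹) * (d : G)⁻¹⁻¹ = x
      group), Subgroup.map_id] at this

end LF

end CfsgLib.Sporadic.LargeFischer
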